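import Cfsg.Agent.Lib.Classical.AutPSp.Main
import Cfsg.Agent.Lib.Classical.AutPSL.FieldClass
import Cfsg.Agent.Lib.Geometry.SympBasis

/-!
Automorphisms of `PSp_{2m}(q)`, part 4: the classes of field automorphisms of prime order.
-/

set_option autoImplicit false

namespace Cfsg.Agent.Lib.Classical.AutPSp

open Matrix
open Cfsg.Agent.Lib.Geometry Cfsg.Agent.Lib.Classical

variable {F : Type*} [Field F] {m : ℕ}

set_option quotPrecheck false in
local notation "Spm" => Subtype (fun A => A ∈ Matrix.symplecticGroup (Fin m) F)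
set_option quotPrecheck false in
local notation "Vm" => (Fin m ⊕ Fin m → F)
set_option quotPrecheck false in
local notation "Mat" => Matrix (Fin m ⊕ Fin m) (Fin m ⊕ Fin m) F
set_option quotPrecheck false in
local notation "GLm" => GL (Fin m ⊕ Fin m) F
set_option quotPrecheck false in
local notation "PSpm" => Cfsg.PSp m F
set_option quotPrecheck false in
local notation "ω" => Cfsg.sympForm m F

/-! ### The multiplier -/

theorem gsp_mult_unique (hm : 1 ≤ m) {A : Mat} {μ ν : F}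
    (h1 : ∀ u v, ω (A *ᵥ u) (A *ᵥ v) = μ * ω u v) (h2 : ∀ u v, ω (A *ᵥ u) (A *ᵥ v) = ν * ω u v) :
    μ = ν := by
  have h := (h1 (Fv ⟨0, hm⟩) (E ⟨0, hm⟩)).symm.trans (h2 _ _)
  rwa [form_E, show (Fv ⟨0, hm⟩ : Vm) (Sum.inr ⟨0, hm⟩) = 1 by simp [Fv], mul_one, mul_one] at h

/-- The multiplier of a conformal symplectic matrix. -/
noncomputable def multHom (hm : 1 ≤ m) : Cfsg.GSp m F →* Fˣ :=
  MonoidHom.mk' (fun g => (gsp_mult g.2).choose) fun a b => Units.ext <| by
    refine gsp_mult_unique hm (gsp_mult (mul_mem a.2 b.2)).choose_spec fun u v => ?_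
    rw [Units.val_mul, ← Matrix.mulVec_mulVec, ← Matrix.mulVec_mulVec, (gsp_mult a.2).choose_spec,
      (gsp_mult b.2).choose_spec, Units.val_mul, mul_assoc]

theorem multHom_spec (hm : 1 ≤ m) (g : Cfsg.GSp m F) (u v : Vm) :
    ω (((g : GLm) : Mat) *ᵥ u) (((g : GLm) : Mat) *ᵥ v) = (multHom hm g : F) * ω u v :=
  (gsp_mult g.2).choose_spec u v

theorem multHom_eq (hm : 1 ≤ m) (g : Cfsg.GSp m F) {μ : F}
    (h : ∀ u v, ω (((g : GLm) : Mat) *ᵥ u) (((g : GLm) : Mat) *ᵥ v) = μ * ω u v) :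
    (multHom hm g : F) = μ := gsp_mult_unique hm (multHom_spec hm g) h

/-- A scalar as a conformal symplectic matrix. -/
def scG (u : Fˣ) : Cfsg.GSp m F :=
  ⟨GeneralLinearGroup.scalar (Fin m ⊕ Fin m) u, u * u, fun a b => by
    rw [show ((GeneralLinearGroup.scalar (Fin m ⊕ Fin m) u : GLm) : Mat) =
      Matrix.scalar _ (u : F) from rfl]
    simp [Matrix.scalar_apply, ← Matrix.smul_one_eq_diagonal, Matrix.smul_mulVec, sympForm_smul_left,
      sympForm_smul_right, mul_assoc]⟩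

theorem scG_mulVec (u : Fˣ) (x : Vm) : (((scG (m := m) u) : GLm) : Mat) *ᵥ x = (u : F) • x := by
  show Matrix.scalar _ (u : F) *ᵥ x = _
  simp [Matrix.scalar_apply, ← Matrix.smul_one_eq_diagonal, Matrix.smul_mulVec]

/-- The diagonal conformal matrix with a given multiplier. -/
def diagMult (u : Fˣ) : Cfsg.GSp m F :=
  ⟨⟨Matrix.diagonal (Sum.elim (fun _ => 1) fun _ => (u : F)),
      Matrix.diagonal (Sum.elim (fun _ => 1) fun _ => ((u⁻¹ : Fˣ) : F)),
      by rw [Matrix.diagonal_mul_diagonal, ← Matrix.diagonal_one]; congr 1; funext k; cases k <;> simp,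
      by rw [Matrix.diagonal_mul_diagonal, ← Matrix.diagonal_one]; congr 1; funext k; cases k <;> simp⟩,
    u, fun a b => by
      rw [sympForm_eq_sum, sympForm_eq_sum, Finset.mul_sum]
      refine Finset.sum_congr rfl fun i _ => ?_
      simp only [Matrix.mulVec_diagonal, Sum.elim_inl, Sum.elim_inr, one_mul]
      ring⟩

theorem multHom_surjective (hm : 1 ≤ m) : Function.Surjective (multHom (F := F) (m := m) hm) :=
  fun u => ⟨diagMult u, Units.ext (multHom_eq hm _ fun a b => by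
    show ω (Matrix.diagonal (Sum.elim (fun _ => 1) fun _ => (u : F)) *ᵥ a) _ = _
    rw [sympForm_eq_sum, sympForm_eq_sum, Finset.mul_sum]
    refine Finset.sum_congr rfl fun i _ => ?_
    simp only [diagMult, Matrix.mulVec_diagonal, Sum.elim_inl, Sum.elim_inr, one_mul]
    ring)⟩

/-- A symplectic matrix as a conformal one. -/
noncomputable def spG : Spm →* Cfsg.GSp m F :=
  MonoidHom.codRestrict (spToGL m F) _ fun s => ⟨1, fun u v => by
    rw [Units.val_one, one_mul, spToGL_coe]; exact sp_form s u v⟩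

theorem dia_spG (s : Spm) : dia (spG s) = MulAut.conj (pr s) := by
  refine MulEquiv.ext fun x => ?_
  obtain ⟨t, rfl⟩ := pr_surjective x
  rw [dia_pr, MulAut.conj_apply, ← map_inv, ← map_mul, ← map_mul]
  refine congrArg pr (Subtype.ext ?_)
  show (spToGL m F s : Mat) * t.1 * (((spToGL m F s)⁻¹ : GLm) : Mat) = _
  rw [← map_inv, spToGL_coe, spToGL_coe]
  rfl

theorem mem_inndiag {β : MulAut PSpm} (hg : Cfsg.IsInnerDiagonalAutPSp β) : β ∈ (dia (F := F) (m := m)).range := by
  obtain ⟨g, hg, h⟩ := hg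
  refine ⟨⟨g, hg⟩, MulEquiv.ext fun x => ?_⟩
  obtain ⟨s, rfl⟩ := pr_surjective x
  rw [dia_pr]
  refine (h s (conjSp ⟨g, hg⟩ s) ?_).symm
  show _ = (g : Mat) * s.1.map (RingEquiv.refl F) * _
  rw [show s.1.map (RingEquiv.refl F) = s.1 from Matrix.ext fun i j => rfl]
  rfl

theorem inndiag_eq : Cfsg.inndiagPSp m F = (dia (F := F) (m := m)).range := by
  refine le_antisymm ?_ ?_
  · rw [Cfsg.inndiagPSp, Cfsg.autSubgroupOf, Subgroup.closure_le]
    exact fun β hβ => mem_inndiag hβ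
  · rintro _ ⟨g, rfl⟩
    refine Subgroup.subset_closure ⟨g.1, g.2, ?_⟩
    have h := isInduced_dia_fld g (1 : F ≃+* F)
    rw [map_one, mul_one] at h
    exact h

theorem inn_le_range : Cfsg.Inn PSpm ≤ (dia (F := F) (m := m)).range := by
  rintro _ ⟨y, rfl⟩
  obtain ⟨s, rfl⟩ := pr_surjective y
  exact ⟨spG s, dia_spG s⟩

/-- The Galois action on conformal matrices. -/
def galG (σ : F ≃+* F) : Cfsg.GSp m F →* Cfsg.GSp m F :=
  MonoidHom.mk' (fun g => ⟨Units.map (RingHom.toMonoidHom σ.toRingHom.mapMatrix) g.1, by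
    obtain ⟨μ, hμ⟩ := gsp_mult g.2
    refine ⟨Units.map (σ : F →* F) μ, fun u v => ?_⟩
    show ω (((g : GLm) : Mat).map σ *ᵥ u) (((g : GLm) : Mat).map σ *ᵥ v) = σ μ * _
    have hu : u = fun i => σ ((fun j => σ.symm (u j)) i) := funext fun i => (σ.apply_symm_apply _).symm
    have hv : v = fun i => σ ((fun j => σ.symm (v j)) i) := funext fun i => (σ.apply_symm_apply _).symm
    rw [hu, hv, map_mulVec', map_mulVec', sympForm_map, sympForm_map, hμ, map_mul]⟩)
    fun a b => Subtype.ext (map_mul _ _ _)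

theorem galG_coe (σ : F ≃+* F) (g : Cfsg.GSp m F) :
    (((galG σ g) : GLm) : Mat) = ((g : GLm) : Mat).map σ := rfl

theorem galG_scG (σ : F ≃+* F) (u : Fˣ) : galG (m := m) σ (scG u) = scG (Units.map (σ : F →* F) u) := by
  refine Subtype.ext (Units.ext ?_)
  rw [galG_coe]
  show (Matrix.scalar _ (u : F)).map σ = Matrix.scalar _ (σ (u : F))
  simp [Matrix.scalar_apply, Matrix.diagonal_map]

theorem fld_mul_dia (σ : F ≃+* F) (g : Cfsg.GSp m F) :
    fld σ * dia g = dia (galG σ g) * (fld σ : MulAut PSpm) := by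
  refine MulEquiv.ext fun x => ?_
  obtain ⟨s, rfl⟩ := pr_surjective x
  show pr (mapSp σ (conjSp g s)) = pr (conjSp (galG σ g) (mapSp σ s))
  refine congrArg pr (Subtype.ext ?_)
  show (((g : GLm) : Mat) * s.1 * (((g : GLm)⁻¹ : GLm) : Mat)).map σ =
    ((g : GLm) : Mat).map σ * s.1.map σ * ((((galG σ g) : GLm)⁻¹ : GLm) : Mat)
  rw [Matrix.map_mul, Matrix.map_mul]
  rfl

variable [Fintype F] (p : ℕ) [Fact p.Prime] [CharP F p]

omit [Fintype F] in
include p in
theorem dia_eq_one_iff (hm : 1 ≤ m) (g : Cfsg.GSp m F) : dia g = 1 ↔ ∃ u : Fˣ, g = scG u := by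
  constructor
  · intro h
    have hpar : ∀ v : Vm, v ≠ 0 → ∃ a : F, a • v = ((g : GLm) : Mat) *ᵥ v := by
      intro v hv
      have h1 := dia_tau g (multHom_spec hm g) v (1 : F)
      rw [h, MulAut.one_apply] at h1
      obtain ⟨a, -, e, -⟩ := tau_eq_imp p hm hv one_ne_zero h1
      exact ⟨a, e.symm⟩
    obtain ⟨a, ha⟩ := (Matrix.toLin' ((g : GLm) : Mat)).exists_eq_smul_id_of_forall_notLinearIndependent fun v => by
      by_cases hv : v = 0
      · simp [hv, linearIndependent_fin2]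
      · rw [LinearIndependent.pair_iff' hv]
        push Not
        obtain ⟨b, hb⟩ := hpar v hv
        exact ⟨b, by rw [Matrix.toLin'_apply, hb]⟩
    have hz : ∀ x : Vm, ((g : GLm) : Mat) *ᵥ x = a • x := fun x => by
      rw [← Matrix.toLin'_apply, ha]; rfl
    have ha0 : a ≠ 0 := by
      intro e
      have h2 := multHom_spec hm g (Fv ⟨0, hm⟩) (E ⟨0, hm⟩)
      rw [hz, hz, e, zero_smul, zero_smul, sympForm_self, form_E, show (Fv ⟨0, hm⟩ : Vm) (Sum.inr ⟨0, hm⟩) = 1 by simp [Fv],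
        mul_one] at h2
      exact (multHom hm g).ne_zero h2.symm
    exact ⟨Units.mk0 a ha0, Subtype.ext (Units.ext (Matrix.ext_of_mulVec_single fun k => by
      rw [hz, scG_mulVec]; rfl))⟩
  · rintro ⟨u, rfl⟩
    refine MulEquiv.ext fun x => ?_
    obtain ⟨s, rfl⟩ := pr_surjective x
    rw [dia_pr, MulAut.one_apply]
    refine congrArg pr (sp_ext fun y => ?_)
    show ((((scG u : Cfsg.GSp m F) : GLm) : Mat) * s.1 * ((((scG u)⁻¹ : Cfsg.GSp m F) : GLm) : Mat)) *ᵥ y = _
    rw [← Matrix.mulVec_mulVec, ← Matrix.mulVec_mulVec, scG_mulVec, ← Matrix.mulVec_smul, ← scG_mulVec u]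
    congr 1
    rw [Matrix.mulVec_mulVec, ← Units.val_mul, Subgroup.coe_inv, mul_inv_cancel, Units.val_one, Matrix.one_mulVec]

omit [Fintype F] in
include p in
theorem fld_injective (hm : 1 ≤ m) : Function.Injective (fld : (F ≃+* F) →* MulAut PSpm) := by
  rw [injective_iff_map_eq_one]
  intro σ hσ
  refine RingEquiv.ext fun c => tau_injective p hm (E_ne_zero (F := F) ⟨0, hm⟩) ?_
  have h := fld_tau σ (E ⟨0, hm⟩) c
  rw [hσ, MulAut.one_apply] at h
  rw [RingAut.one_apply]
  conv_rhs => rw [h]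
  congr 1
  funext k
  simp [E, Pi.single_apply, apply_ite σ]

/-- A conformal symplectic matrix in even characteristic is a scalar times a symplectic one. -/
theorem dia_mem_inn_of_two [CharP F 2] (hm : 1 ≤ m) (g : Cfsg.GSp m F) : dia g ∈ Cfsg.Inn PSpm := by
  obtain ⟨a, ha⟩ := isSquare_iff_exists_sq _ |>.mp (FiniteField.isSquare_of_char_two (ringChar.eq F 2) (multHom hm g : F))
  have ha0 : a ≠ 0 := fun e => (multHom hm g).ne_zero (by rw [ha, e]; simp)
  set u := Units.mk0 a ha0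
  set h := (scG u)⁻¹ * g with hh
  have hmem : ((h : GLm) : Mat) ∈ Matrix.symplecticGroup (Fin m) F := by
    refine mem_symplecticGroup_iff_form.mpr fun x y => ?_
    rw [multHom_spec hm h, hh, map_mul, map_inv]
    have h2 : (multHom hm (scG (m := m) u) : F) = a * a := multHom_eq hm _ fun x y => by
      rw [scG_mulVec, scG_mulVec, sympForm_smul_left, sympForm_smul_right, Units.val_mk0, mul_assoc]
    rw [Units.val_mul, Units.val_inv_eq_inv_val, h2, ha, sq, inv_mul_cancel₀ (mul_ne_zero ha0 ha0), one_mul]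
  refine ⟨pr ⟨_, hmem⟩, ?_⟩
  rw [← dia_spG, show g = scG u * h by rw [hh, mul_inv_cancel_left], map_mul,
    (dia_eq_one_iff 2 hm (scG u)).mpr ⟨u, rfl⟩, one_mul]
  exact congrArg dia (Subtype.ext (Units.ext rfl))

include p in
theorem inndiag_normal (hm : 2 ≤ m) (a : MulAut PSpm) {y : MulAut PSpm}
    (hy : y ∈ (dia (F := F) (m := m)).range) : a * y * a⁻¹ ∈ (dia (F := F) (m := m)).range := by
  by_cases h2 : p = 2
  · subst h2
    obtain ⟨g, rfl⟩ := hy
    obtain ⟨z, hz⟩ := dia_mem_inn_of_two (show 1 ≤ m by omega) g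
    refine inn_le_range ⟨a z, ?_⟩
    rw [← hz]
    exact MulEquiv.ext fun w => by simp [MulAut.conj_apply]
  · obtain ⟨g, rfl⟩ := hy
    obtain ⟨h, σ, rfl⟩ := decomposition p hm (fun _ => h2) a
    refine ⟨h * galG σ g * h⁻¹, ?_⟩
    rw [mul_assoc (dia h), fld_mul_dia, map_mul, map_mul, map_inv, _root_.mul_inv_rev]
    group

omit [Fintype F] [Fact p.Prime] [CharP F p] in
theorem eq_fld_of_isStdField {σ : F ≃+* F} {β : MulAut PSpm} (h : Cfsg.IsStdFieldAutPSp σ β) :
    β = fld σ := by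
  refine MulEquiv.ext fun x => ?_
  obtain ⟨s, rfl⟩ := pr_surjective x
  exact h s (mapSp σ s) rfl

/-- The twisted product. -/
def prodG (σ : F ≃+* F) (g : Cfsg.GSp m F) : ℕ → Cfsg.GSp m F
  | 0 => 1
  | k + 1 => g * galG σ (prodG σ g k)

omit [Fintype F] [Fact p.Prime] [CharP F p] in
theorem dia_mul_fld_pow (σ : F ≃+* F) (g : Cfsg.GSp m F) (k : ℕ) :
    (dia g * fld σ : MulAut PSpm) ^ k = dia (prodG σ g k) * fld (σ ^ k) := by
  induction k with
  | zero => rw [pow_zero, pow_zero, prodG, map_one, map_one, mul_one]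
  | succ k ih =>
    rw [pow_succ', ih, prodG, mul_assoc, ← mul_assoc (fld σ), fld_mul_dia, map_mul, pow_succ' σ,
      map_mul, mul_assoc, mul_assoc]

omit [Fintype F] [Fact p.Prime] [CharP F p] in
theorem conj_fld (σ : F ≃+* F) (k : Cfsg.GSp m F) :
    dia k * fld σ * (dia k)⁻¹ = dia (k * (galG σ k)⁻¹) * (fld σ : MulAut PSpm) := by
  rw [mul_assoc, ← map_inv, fld_mul_dia, map_inv, map_inv, ← mul_assoc, map_mul, map_inv]

/-! ### Descent -/

omit [Fact p.Prime] [CharP F p] in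
/-- Descent for conformal symplectic matrices. -/
theorem exists_descent (hm : 1 ≤ m) {σ : F ≃+* F} {r : ℕ} (hr : r.Prime) (hσ : σ ^ r = 1) (hne : σ ≠ 1)
    (a : Cfsg.GSp m F) {c : Fˣ} (hc : prodG σ a r = scG c) :
    ∃ (u : Fˣ) (k : Cfsg.GSp m F), a = scG u * (k * (galG σ k)⁻¹) := by
  classical
  let e : Fin m ⊕ Fin m ≃ Fin (m + m) := finSumFinEquiv
  let ρ : GLm ≃* GL (Fin (m + m)) F := Units.mapEquiv (Matrix.reindexAlgEquiv F F e).toMulEquiv
  have hρg : ∀ g : GLm, ρ (Units.map (RingHom.toMonoidHom σ.toRingHom.mapMatrix) g) = AutPSL.galGL σ (ρ g) :=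
    fun g => Units.ext (Matrix.ext fun i j => rfl)
  have hρs : ∀ u : Fˣ, ρ ((scG (m := m) u : Cfsg.GSp m F) : GLm) = GeneralLinearGroup.scalar (Fin (m + m)) u := by
    intro u
    refine Units.ext (Matrix.ext fun i j => ?_)
    show Matrix.scalar _ (u : F) (e.symm i) (e.symm j) = Matrix.scalar _ (u : F) i j
    simp [Matrix.scalar_apply, Matrix.diagonal_apply, e.symm.injective.eq_iff]
  have hprod : ∀ k, ρ (prodG σ a k : GLm) = AutPSL.galProd σ (ρ a) k := by
    intro k
    induction k with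
    | zero => exact map_one ρ
    | succ k ih =>
      show ρ ((a : GLm) * Units.map (RingHom.toMonoidHom σ.toRingHom.mapMatrix) (prodG σ a k : GLm)) = _
      rw [map_mul, hρg, ih]
      rfl
  obtain ⟨u, h', hh'⟩ := AutPSL.exists_eq_scalar_mul_twist hr hσ hne (n := m + m) (by omega) (g := ρ a) (by
    rw [← hprod, hc, hρs, GeneralLinearGroup.center_eq_range_scalar]; exact ⟨c, rfl⟩)
  obtain ⟨h, rfl⟩ := ρ.surjective h'
  set hσh := Units.map (RingHom.toMonoidHom σ.toRingHom.mapMatrix) h with hdef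
  rw [← hρg, ← hρs, ← map_inv, ← map_mul, ← map_mul] at hh'
  have ha : (a : GLm) = (scG u : Cfsg.GSp m F).1 * (h * hσh⁻¹) := ρ.injective hh'
  set a' := (scG u)⁻¹ * a with ha'
  have hhh : (a' : GLm) * hσh = h := by
    rw [ha', Subgroup.coe_mul, Subgroup.coe_inv, ha, inv_mul_cancel_left, inv_mul_cancel_right]
  set μ := multHom hm a'
  let B : Fin m ⊕ Fin m → Fin m ⊕ Fin m → F := fun i j =>
    ω ((h : Mat) *ᵥ Pi.single i 1) ((h : Mat) *ᵥ Pi.single j 1)
  have hσB : ∀ i j, B i j = (μ : F) * σ (B i j) := by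
    intro i j
    have hs : ∀ k, (h : Mat) *ᵥ Pi.single k 1 =
        ((a' : GLm) : Mat) *ᵥ (fun l => σ (((h : Mat) *ᵥ Pi.single k 1) l)) := by
      intro k
      conv_lhs => rw [← hhh]
      rw [Units.val_mul, ← Matrix.mulVec_mulVec]
      congr 1
      funext l
      simp [hdef, Matrix.mulVec_single_one]
    show ω _ _ = _
    conv_lhs => rw [hs i, hs j, multHom_spec hm a', sympForm_map]
  obtain ⟨x, hx⟩ : ∃ i, ∃ j, B i j ≠ 0 := by
    by_contra hcon
    push Not at hcon
    have hz : (sympBilin m F).compl₁₂ (Matrix.toLin' (h : Mat)) (Matrix.toLin' (h : Mat)) = 0 :=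
      LinearMap.ext_basis (Pi.basisFun F _) (Pi.basisFun F _) fun s t => by
        rw [Pi.basisFun_apply, Pi.basisFun_apply, LinearMap.compl₁₂_apply, sympBilin_apply,
          Matrix.toLin'_apply, Matrix.toLin'_apply]
        exact hcon s t
    obtain ⟨w, hw⟩ := exists_sympForm_eq_one (v := (Fv ⟨0, hm⟩ : Vm)) (Fv_ne_zero _)
    have h3 := LinearMap.congr_fun₂ hz (((h⁻¹ : GLm) : Mat) *ᵥ Fv ⟨0, hm⟩) (((h⁻¹ : GLm) : Mat) *ᵥ w)
    rw [LinearMap.compl₁₂_apply, Matrix.toLin'_apply, Matrix.toLin'_apply, Matrix.mulVec_mulVec,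
      Matrix.mulVec_mulVec, ← Units.val_mul, mul_inv_cancel, Units.val_one, Matrix.one_mulVec, Matrix.one_mulVec,
      sympBilin_apply, hw] at h3
    exact one_ne_zero h3
  obtain ⟨y, hxy⟩ := hx
  set b := B x y with hb
  obtain ⟨K, hK, -⟩ : ∃ K : Subfield F, (∀ c, c ∈ K ↔ σ c = c) ∧ True := by
    haveI : Finite (F ≃+* F) := Finite.of_injective (fun e : F ≃+* F => (e : F → F)) DFunLike.coe_injective
    refine ⟨FixedPoints.subfield (Subgroup.zpowers σ) F, fun c => ⟨fun h => h ⟨σ, Subgroup.mem_zpowers σ⟩,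
      fun h τ => ?_⟩, trivial⟩
    exact (Subgroup.zpowers_le.mpr (show σ ∈ MulAction.stabilizer (F ≃+* F) c from h)) τ.2
  have hbK : ∀ i j, b⁻¹ * B i j ∈ K := fun i j => by
    have h1 := hσB x y
    have h2 := hσB i j
    rw [← hb] at h1
    rw [hK, map_mul, map_inv₀]
    have hσb : σ b ≠ 0 := fun e => hxy (σ.injective (e.trans (map_zero σ).symm))
    conv_rhs => rw [h1, h2]
    field_simp
  let M : Matrix (Fin m ⊕ Fin m) (Fin m ⊕ Fin m) K := fun i j => ⟨b⁻¹ * B i j, hbK i j⟩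
  let BK : LinearMap.BilinForm K (Fin m ⊕ Fin m → K) := Matrix.toBilin' M
  have hBK : ∀ x' y', ((BK x' y' : K) : F) =
      b⁻¹ * ω ((h : Mat) *ᵥ fun i => (x' i : F)) ((h : Mat) *ᵥ fun i => (y' i : F)) := by
    intro x' y'
    rw [Matrix.toBilin'_apply, ← sympBilin_apply, ← Matrix.toLin'_apply, ← Matrix.toLin'_apply]
    conv_rhs => rw [pi_eq_sum_univ' (fun i => (x' i : F)), pi_eq_sum_univ' (fun i => (y' i : F))]
    simp only [map_sum, map_smul, LinearMap.sum_apply, LinearMap.smul_apply, smul_eq_mul, Finset.mul_sum,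
      AddSubmonoidClass.coe_finsetSum, Subring.coe_mul, Subfield.coe_mul]
    rw [Finset.sum_comm]
    refine Finset.sum_congr rfl fun i _ => Finset.sum_congr rfl fun j _ => ?_
    simp only [M, B, Matrix.toLin'_apply, sympBilin_apply]
    ring
  have hA : BK.IsAlt := fun x' => Subtype.ext (by rw [hBK, sympForm_self, mul_zero]; rfl)
  obtain ⟨m', k, bs, h11, h12, h13, h14⟩ := exists_sympBasis BK hA
  have hk : k = 0 := by
    by_contra hk0
    set w := bs (Sum.inr ⟨0, Nat.pos_of_ne_zero hk0⟩)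
    have hw0 : (fun i => (w i : F)) ≠ 0 := fun e => bs.ne_zero _ (funext fun i => Subtype.ext (congrFun e i))
    have hhw : (h : Mat) *ᵥ (fun i => (w i : F)) ≠ 0 := fun e => hw0 (by
      have := congrArg (((h⁻¹ : GLm) : Mat) *ᵥ ·) e
      simpa [Matrix.mulVec_mulVec, ← Units.val_mul] using this)
    obtain ⟨z, hz⟩ := exists_sympForm_eq_one hhw
    have hz' : ∀ l, ω ((h : Mat) *ᵥ fun i => (w i : F)) ((h : Mat) *ᵥ Pi.single l 1) = 0 := by
      intro l
      have h2 := hBK w (Pi.single l 1)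
      rw [h14, ZeroMemClass.coe_zero, eq_comm, mul_eq_zero] at h2
      convert h2.resolve_left (inv_ne_zero hxy) using 3
      funext i
      by_cases hi : i = l
      · subst hi; simp
      · simp [hi]
    have hall : (sympBilin m F ((h : Mat) *ᵥ fun i => (w i : F))).comp (Matrix.toLin' (h : Mat)) = 0 :=
      (Pi.basisFun F _).ext fun l => by
        rw [Pi.basisFun_apply, LinearMap.comp_apply, sympBilin_apply, Matrix.toLin'_apply, LinearMap.zero_apply]
        exact hz' l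
    have h3 := LinearMap.congr_fun hall (((h⁻¹ : GLm) : Mat) *ᵥ z)
    rw [LinearMap.comp_apply, sympBilin_apply, Matrix.toLin'_apply, Matrix.mulVec_mulVec, ← Units.val_mul,
      mul_inv_cancel, Units.val_one, Matrix.one_mulVec, hz] at h3
    exact one_ne_zero h3
  subst hk
  have hm' : m = m' := by
    have := Module.finrank_eq_card_basis bs
    rw [Module.finrank_fintype_fun_eq_card, Fintype.card_sum, Fintype.card_sum, Fintype.card_sum,
      Fintype.card_fin, Fintype.card_fin, Fintype.card_fin] at this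
    omega
  subst hm'
  let s : Mat := Matrix.of fun i j => ((bs (Sum.inl (j.swap)) i : K) : F)
  have hs : ∀ l, s *ᵥ Pi.single l 1 = fun i => ((bs (Sum.inl l.swap) i : K) : F) := fun l =>
    Matrix.mulVec_single_one _ _
  have hform : ((sympBilin m F).compl₁₂ (Matrix.toLin' ((h : Mat) * s)) (Matrix.toLin' ((h : Mat) * s))) =
      b • sympBilin m F := by
    refine LinearMap.ext_basis (Pi.basisFun F _) (Pi.basisFun F _) fun i j => ?_
    rw [Pi.basisFun_apply, Pi.basisFun_apply, LinearMap.compl₁₂_apply, LinearMap.smul_apply,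
      LinearMap.smul_apply, sympBilin_apply, sympBilin_apply, Matrix.toLin'_apply, Matrix.toLin'_apply,
      ← Matrix.mulVec_mulVec, ← Matrix.mulVec_mulVec, hs, hs, smul_eq_mul]
    have h5 := hBK (bs (Sum.inl i.swap)) (bs (Sum.inl j.swap))
    rw [eq_inv_mul_iff_mul_eq₀ hxy] at h5
    rw [← h5]
    congr 1
    rcases i with i | i <;> rcases j with j | j <;> simp only [Sum.swap_inl, Sum.swap_inr]
    · rw [h13, show (Pi.single (Sum.inl j) (1 : F) : Fin m ⊕ Fin m → F) = E j from rfl, form_E]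
      simp
    · rw [show BK (bs (Sum.inl (Sum.inr i))) (bs (Sum.inl (Sum.inl j))) =
          - BK (bs (Sum.inl (Sum.inl j))) (bs (Sum.inl (Sum.inr i))) from (hA.neg_eq _ _).symm, h11,
        show (Pi.single (Sum.inr j) (1 : F) : Fin m ⊕ Fin m → F) = Fv j from rfl, form_Fv]
      by_cases hij : j = i
      · subst hij; simp
      · simp [hij, Ne.symm hij]
    · rw [h11, show (Pi.single (Sum.inl j) (1 : F) : Fin m ⊕ Fin m → F) = E j from rfl, form_E]
      by_cases hij : i = j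
      · subst hij; simp
      · simp [hij, Ne.symm hij]
    · rw [h12, show (Pi.single (Sum.inr j) (1 : F) : Fin m ⊕ Fin m → F) = Fv j from rfl, form_Fv]
      simp
  have hsform : ∀ u v, Cfsg.sympForm m F (((h : Mat) * s) *ᵥ u) (((h : Mat) * s) *ᵥ v) = b * Cfsg.sympForm m F u v :=
    fun u v => by
    have := LinearMap.congr_fun₂ hform u v
    rwa [LinearMap.compl₁₂_apply, LinearMap.smul_apply, LinearMap.smul_apply, smul_eq_mul, sympBilin_apply,
      sympBilin_apply, Matrix.toLin'_apply, Matrix.toLin'_apply] at this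
  have hdet : ((h : Mat) * s).det ≠ 0 := by
    intro h0
    obtain ⟨v, hv, hv0⟩ := Matrix.exists_mulVec_eq_zero_iff.mpr h0
    obtain ⟨w, hw⟩ := exists_sympForm_eq_one hv
    have h6 := hsform v w
    rw [hv0, hw, mul_one, ← sympBilin_apply, map_zero, LinearMap.zero_apply] at h6
    exact hxy h6.symm
  let k : Cfsg.GSp m F := ⟨GeneralLinearGroup.mkOfDetNeZero _ hdet, Units.mk0 b hxy, hsform⟩
  refine ⟨u, k, ?_⟩
  have hσs : s.map σ = s := Matrix.ext fun i j => (hK _).mp (bs (Sum.inl j.swap) i).2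
  have hk2 : (galG σ k : GL (Fin m ⊕ Fin m) F) = hσh * (h⁻¹ * (k : GL (Fin m ⊕ Fin m) F)) := by
    refine Units.ext ?_
    rw [galG_coe, Units.val_mul, Units.val_mul]
    show ((h : Matrix _ _ F) * s).map σ = (h : Matrix _ _ F).map σ * (_ * ((h : Matrix _ _ F) * s))
    rw [Matrix.map_mul, hσs]
    congr 1
    rw [← mul_assoc, ← Units.val_mul, inv_mul_cancel, Units.val_one, one_mul]
  refine Subtype.ext ?_
  rw [Subgroup.coe_mul, Subgroup.coe_mul, Subgroup.coe_inv, hk2, ha]
  group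

include p in
theorem exists_standard (hm : 2 ≤ m) {x : MulAut PSpm} (hx : Cfsg.IsFieldAutClassPSp x) :
    ∃ (σ : F ≃+* F) (a : MulAut PSpm), σ ≠ 1 ∧ x = a * fld σ * a⁻¹ := by
  obtain ⟨α, σ, hσ, h⟩ := hx
  refine ⟨σ, α⁻¹, hσ, ?_⟩
  rw [← eq_fld_of_isStdField h]
  group

include p in
theorem order_iff_conj (hm : 2 ≤ m) {x δ : MulAut PSpm} (hx : Cfsg.IsFieldAutClassPSp x) {r : ℕ}
    (hr : r.Prime) (hxr : orderOf x = r) (hδ : δ ∈ Cfsg.inndiagPSp m F) :
    orderOf (δ * x) = r ↔ Cfsg.IsConjUnder (Cfsg.inndiagPSp m F) x (δ * x) := by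
  refine ⟨fun h => ?_, fun ⟨w, _, e⟩ => by rw [e, AutPSL.orderOf_conj_eq, hxr]⟩
  obtain ⟨σ, a, hσ, rfl⟩ := exists_standard p hm hx
  rw [inndiag_eq] at hδ ⊢
  have hm1 : 1 ≤ m := by omega
  obtain ⟨g, hg⟩ := inndiag_normal p hm a⁻¹ hδ
  rw [inv_inv] at hg
  rw [AutPSL.orderOf_conj_eq, orderOf_injective fld (fld_injective p hm1)] at hxr
  have hσr : σ ^ r = 1 := hxr ▸ pow_orderOf_eq_one σ
  have he : δ * (a * fld σ * a⁻¹) = a * (dia g * fld σ) * a⁻¹ := by rw [hg]; group
  rw [he, AutPSL.orderOf_conj_eq] at h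
  have hpow := pow_orderOf_eq_one (dia g * fld σ : MulAut PSpm)
  rw [h, dia_mul_fld_pow, hσr, map_one, mul_one, dia_eq_one_iff p hm1] at hpow
  obtain ⟨c, hc⟩ := hpow
  obtain ⟨u, k, hk⟩ := exists_descent hm1 hr hσr hσ g hc
  refine ⟨a * dia k * a⁻¹, inndiag_normal p hm a ⟨k, rfl⟩, ?_⟩
  rw [he, hk, map_mul, (dia_eq_one_iff p hm1 _).mpr ⟨u, rfl⟩, one_mul, ← conj_fld]
  group

omit [Fintype F] [Fact p.Prime] [CharP F p] in
theorem splitClassCount_normalised {X : Type*} [Group X] (N K : Subgroup X) (a x : X)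
    (hN : ∀ y, a * y * a⁻¹ ∈ N ↔ y ∈ N) (hK : ∀ y, a * y * a⁻¹ ∈ K ↔ y ∈ K) :
    Cfsg.splitClassCount N K (a * x * a⁻¹) = Cfsg.splitClassCount N K x := by
  have hc : ∀ (S : Subgroup X), (∀ y, a * y * a⁻¹ ∈ S ↔ y ∈ S) → ∀ u v,
      Cfsg.IsConjUnder S (a * u * a⁻¹) (a * v * a⁻¹) ↔ Cfsg.IsConjUnder S u v := by
    intro S hS u v
    constructor
    · rintro ⟨h, hh, e⟩
      refine ⟨a⁻¹ * h * a, (hS _).mp (by simpa [mul_assoc] using hh), ?_⟩
      calc v = a⁻¹ * (a * v * a⁻¹) * a := by group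
        _ = _ := by rw [e]; group
    · rintro ⟨h, hh, e⟩
      exact ⟨a * h * a⁻¹, (hS _).mpr hh, by rw [e]; group⟩
  let E : {y // Cfsg.IsConjUnder N x y} ≃ {y // Cfsg.IsConjUnder N (a * x * a⁻¹) y} :=
    (MulAut.conj a).toEquiv.subtypeEquiv fun y => (hc N hN x y).symm
  exact (Nat.card_congr (Quot.congr E fun u v => (hc K hK u.1 v.1).symm)).symm

include p in
theorem field_class {f : ℕ} (hF : Fintype.card F = p ^ f) (hm : 2 ≤ m) {x : MulAut PSpm}
    (hx : Cfsg.IsFieldAutClassPSp x) {r : ℕ} (hr : r.Prime) (hxr : orderOf x = r)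
    (F₀ : Type*) [Field F₀] [Fintype F₀] (hF₀ : Fintype.card F₀ = p ^ (f / r)) :
    r ∣ f ∧ Nonempty (↥(Cfsg.inndiagPSp m F ⊓ Subgroup.centralizer {x}) ≃* Cfsg.PGSp m F₀) ∧
      Cfsg.splitClassCount (Cfsg.inndiagPSp m F) (Cfsg.Inn PSpm) x = Nat.gcd (Nat.gcd 2 (p ^ f - 1)) r := by
  classical
  have hm1 : 1 ≤ m := by omega
  obtain ⟨σ, a, hσ, rfl⟩ := exists_standard p hm hx
  rw [AutPSL.orderOf_conj_eq, orderOf_injective fld (fld_injective p hm1)] at hxr
  have hrf : r ∣ f := by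
    rw [← (AutPSL.gal_cyclic_card (F := F) hF).2, ← hxr]
    exact orderOf_dvd_natCard σ
  have hσr : σ ^ r = 1 := hxr ▸ pow_orderOf_eq_one σ
  obtain ⟨j, hj⟩ := AutPSL.exists_fixedField_hom hF hxr hrf hF₀
  rw [inndiag_eq]
  set N := (dia (F := F) (m := m)).range with hN
  have hnorm : ∀ b : MulAut PSpm, ∀ y, b * y * b⁻¹ ∈ N ↔ y ∈ N := fun b y => by
    refine ⟨fun h => ?_, inndiag_normal p hm b⟩
    have := inndiag_normal p hm b⁻¹ h
    rwa [show b⁻¹ * (b * y * b⁻¹) * b⁻¹⁻¹ = y by group] at this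
  have hInn : ∀ b : MulAut PSpm, ∀ y, b * y * b⁻¹ ∈ Cfsg.Inn PSpm ↔ y ∈ Cfsg.Inn PSpm := fun b y => by
    have key : ∀ (b : MulAut PSpm) y, y ∈ Cfsg.Inn PSpm → b * y * b⁻¹ ∈ Cfsg.Inn PSpm := by
      rintro b _ ⟨z, rfl⟩
      exact ⟨b z, MulEquiv.ext fun w => by simp [MulAut.conj_apply]⟩
    refine ⟨fun h => ?_, key b y⟩
    have := key b⁻¹ _ h
    simpa [mul_assoc] using this
  have hmap : ∀ k : Cfsg.GSp m F₀, Units.map (RingHom.toMonoidHom j.mapMatrix) k.1 ∈ Cfsg.GSp m F := by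
    intro k
    obtain ⟨μ, hμ⟩ := gsp_mult k.2
    refine ⟨Units.map (j : F₀ →* F) μ, fun u v => ?_⟩
    have hform : ((sympBilin m F).compl₁₂ (Matrix.toLin' (((k.1 : GL (Fin m ⊕ Fin m) F₀) : Matrix _ _ F₀).map j))
        (Matrix.toLin' (((k.1 : GL (Fin m ⊕ Fin m) F₀) : Matrix _ _ F₀).map j))) = (j (μ : F₀)) • sympBilin m F := by
      refine LinearMap.ext_basis (Pi.basisFun F _) (Pi.basisFun F _) fun i i' => ?_
      rw [Pi.basisFun_apply, Pi.basisFun_apply, LinearMap.compl₁₂_apply, LinearMap.smul_apply,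
        LinearMap.smul_apply, sympBilin_apply, sympBilin_apply, Matrix.toLin'_apply, Matrix.toLin'_apply, smul_eq_mul]
      have h := congrArg j (hμ (Pi.single i 1) (Pi.single i' 1))
      simpa [sympForm_eq_sum, Matrix.mulVec_single_one, Pi.single_apply, apply_ite j] using h
    have := LinearMap.congr_fun₂ hform u v
    rw [LinearMap.compl₁₂_apply, LinearMap.smul_apply, LinearMap.smul_apply, sympBilin_apply, sympBilin_apply,
      Matrix.toLin'_apply, Matrix.toLin'_apply] at this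
    exact this
  let jG : Cfsg.GSp m F₀ →* Cfsg.GSp m F :=
    MonoidHom.mk' (fun k => ⟨_, hmap k⟩) fun a b => Subtype.ext (map_mul _ _ _)
  have hjfix : ∀ k, galG σ (jG k) = jG k := fun k =>
    Subtype.ext (Units.ext (Matrix.ext fun s t => (hj _).mpr ⟨_, rfl⟩))
  have hcent : ∀ g, dia g ∈ Subgroup.centralizer {(fld σ : MulAut PSpm)} ↔ ∃ c, g⁻¹ * galG σ g = scG c := by
    intro g
    rw [Subgroup.mem_centralizer_singleton_iff, fld_mul_dia, mul_left_inj, ← dia_eq_one_iff p hm1, map_mul,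
      map_inv, inv_mul_eq_one]
  have hsurj : ∀ g, (∃ c, g⁻¹ * galG σ g = scG c) → ∃ k u, g = jG k * scG u := by
    rintro g ⟨c, hc⟩
    have hgc : galG σ g = g * scG c := by rw [← hc, mul_inv_cancel_left]
    have hscmul : ∀ u v : Fˣ, (scG (u * v) : Cfsg.GSp m F) = scG u * scG v := fun u v =>
      Subtype.ext (map_mul _ _ _)
    have hiter : ∀ k, ∃ v : Fˣ, (v : F) = AutPSL.galNorm σ k c ∧
        galG (σ ^ k) g = g * scG v := by
      intro k
      induction k with
      | zero =>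
        refine ⟨1, rfl, ?_⟩
        rw [show (scG (1 : Fˣ) : Cfsg.GSp m F) = 1 from Subtype.ext (map_one _), mul_one, pow_zero]
        exact Subtype.ext (Units.ext (Matrix.ext fun a b => rfl))
      | succ k ih =>
        obtain ⟨v, hv, e⟩ := ih
        refine ⟨c * Units.map (σ : F →* F) v, by rw [Units.val_mul, AutPSL.galNorm, Units.coe_map, hv]; rfl, ?_⟩
        rw [show galG (σ ^ (k + 1)) g = galG σ (galG (σ ^ k) g) from by
          refine Subtype.ext (Units.ext (Matrix.ext fun a b => ?_))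
          rw [pow_succ']; rfl, e, map_mul, hgc, galG_scG, mul_assoc, hscmul]
    obtain ⟨v, hv, e⟩ := hiter r
    rw [hσr, show galG (1 : F ≃+* F) g = g from Subtype.ext (Units.ext (Matrix.ext fun a b => rfl)), eq_comm,
      mul_eq_left] at e
    have hv1 : (v : F) = 1 := by
      have h := congrArg (fun k : Cfsg.GSp m F => ((k : GLm) : Mat) (Sum.inl ⟨0, hm1⟩) (Sum.inl ⟨0, hm1⟩)) e
      simpa [scG, Matrix.scalar_apply] using h
    obtain ⟨b, hb0, hb⟩ := AutPSL.exists_twist_scalar hr hσr hσ (a := (c : F)) (by rw [← hv, hv1])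
    set h := g * scG (Units.mk0 b hb0) with hhdef
    have hh : ∀ s t, σ (((h : GLm) : Mat) s t) = ((h : GLm) : Mat) s t := by
      intro s t
      have : galG σ h = h := by
        rw [hhdef, map_mul, hgc, galG_scG, mul_assoc, ← hscmul]
        congr 2
        exact Units.ext hb
      exact congrArg (fun x : Cfsg.GSp m F => ((x : GLm) : Mat) s t) this
    choose H hH using fun s t => (hj _).mp (hh s t)
    have hHmat : (Matrix.of H).map j = ((h : GLm) : Mat) := Matrix.ext hH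
    have hdet : (Matrix.of H).det ≠ 0 := by
      intro h0
      have h1 : ((h : GLm) : Mat).det = j (Matrix.of H).det := by
        rw [RingHom.map_det, RingHom.mapMatrix_apply, hHmat]
      rw [h0, map_zero] at h1
      exact (GeneralLinearGroup.det (h : GLm)).ne_zero h1
    have hvec : ∀ (i : Fin m ⊕ Fin m), (fun l => j (((Matrix.of H) *ᵥ Pi.single i 1) l)) = ((h : GLm) : Mat) *ᵥ Pi.single i 1 :=
      fun i => funext fun l => by simp [Matrix.mulVec_single_one, hH]
    set i₀ : Fin m := ⟨0, hm1⟩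
    have hjform : ∀ u v : Fin m ⊕ Fin m → F₀, j (Cfsg.sympForm m F₀ u v) = ω (fun l => j (u l)) (fun l => j (v l)) :=
      fun u v => by simp [sympForm_eq_sum]
    set μ₀ := Cfsg.sympForm m F₀ ((Matrix.of H) *ᵥ Fv i₀) ((Matrix.of H) *ᵥ E i₀)
    have hμj : j μ₀ = multHom hm1 h := by
      rw [hjform, show (fun l => j (((Matrix.of H) *ᵥ (Fv i₀ : Fin m ⊕ Fin m → F₀)) l)) = _ from hvec _,
        show (fun l => j (((Matrix.of H) *ᵥ (E i₀ : Fin m ⊕ Fin m → F₀)) l)) = _ from hvec _, multHom_spec hm1,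
        show (Pi.single (Sum.inl i₀) (1 : F) : Vm) = E i₀ from rfl, form_E]
      simp
    have hμ0 : μ₀ ≠ 0 := fun e => by rw [e, map_zero] at hμj; exact (multHom hm1 h).ne_zero hμj.symm
    let k : Cfsg.GSp m F₀ := ⟨GeneralLinearGroup.mkOfDetNeZero (Matrix.of H) hdet, Units.mk0 μ₀ hμ0, by
      intro u v
      have hform : (sympBilin m F₀).compl₁₂ (Matrix.toLin' (Matrix.of H)) (Matrix.toLin' (Matrix.of H)) =
          μ₀ • sympBilin m F₀ := by
        refine LinearMap.ext_basis (Pi.basisFun F₀ _) (Pi.basisFun F₀ _) fun i i' => j.injective ?_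
        rw [Pi.basisFun_apply, Pi.basisFun_apply, LinearMap.compl₁₂_apply, LinearMap.smul_apply,
          LinearMap.smul_apply, sympBilin_apply, sympBilin_apply, Matrix.toLin'_apply, Matrix.toLin'_apply,
          smul_eq_mul, map_mul, hμj, hjform, hjform, hvec, hvec, multHom_spec hm1]
        congr 2 <;> funext l <;> simp [Pi.single_apply, apply_ite j]
      have := LinearMap.congr_fun₂ hform u v
      rw [LinearMap.compl₁₂_apply, LinearMap.smul_apply, LinearMap.smul_apply, sympBilin_apply, sympBilin_apply,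
        Matrix.toLin'_apply, Matrix.toLin'_apply] at this
      exact this⟩
    refine ⟨k, (Units.mk0 b hb0)⁻¹, ?_⟩
    rw [show jG k = h from Subtype.ext (Units.ext hHmat), hhdef, mul_assoc, ← hscmul, mul_inv_cancel,
      show (scG (1 : Fˣ) : Cfsg.GSp m F) = 1 from Subtype.ext (map_one _), mul_one]
  refine ⟨hrf, ?_, ?_⟩
  · let C := N ⊓ Subgroup.centralizer {(fld σ : MulAut PSpm)}
    let Φ : Cfsg.GSp m F₀ →* C := MonoidHom.codRestrict (dia.comp jG) C fun k =>
      ⟨⟨jG k, rfl⟩, (hcent _).mpr ⟨1, by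
        rw [hjfix, inv_mul_cancel]; exact (Subtype.ext (map_one _)).symm⟩⟩
    have hΦs : Function.Surjective Φ := by
      rintro ⟨_, ⟨g, rfl⟩, hg⟩
      obtain ⟨k, u, rfl⟩ := hsurj g ((hcent g).mp hg)
      refine ⟨k, Subtype.ext ?_⟩
      show dia (jG k) = dia (jG k * scG u)
      rw [map_mul, (dia_eq_one_iff p hm1 _).mpr ⟨u, rfl⟩, mul_one]
    have hker : Φ.ker = (Cfsg.Geo.scalars (Fin m ⊕ Fin m) F₀).subgroupOf (Cfsg.GSp m F₀) := by
      ext k
      rw [MonoidHom.mem_ker, Subgroup.mem_subgroupOf]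
      constructor
      · intro h
        obtain ⟨u, hu⟩ := (dia_eq_one_iff p hm1 _).mp (congrArg Subtype.val h)
        have hent := fun s t => congrArg (fun x : Cfsg.GSp m F => ((x : GLm) : Mat) s t) hu
        set i₀ : Fin m ⊕ Fin m := Sum.inl ⟨0, hm1⟩
        set w := ((k.1 : GL (Fin m ⊕ Fin m) F₀) : Matrix _ _ F₀) i₀ i₀
        have hjk : ∀ s t, j (((k.1 : GL (Fin m ⊕ Fin m) F₀) : Matrix _ _ F₀) s t) = if s = t then (u : F) else 0 :=
          fun s t => by
          have := hent s t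
          simpa [jG, scG, Matrix.scalar_apply, Matrix.diagonal_apply] using this
        have hw : j w = u := by rw [hjk, if_pos rfl]
        have hw0 : w ≠ 0 := fun e => by rw [e, map_zero] at hw; exact u.ne_zero hw.symm
        refine ⟨Units.mk0 w hw0, Units.ext (Matrix.ext fun s t => j.injective ?_)⟩
        show j (Matrix.scalar _ w s t) = j _
        rw [hjk]
        simp [Matrix.scalar_apply, Matrix.diagonal_apply, apply_ite j, hw]
      · rintro ⟨w, hw⟩
        refine Subtype.ext ((dia_eq_one_iff p hm1 _).mpr ⟨Units.map (j : F₀ →* F) w, ?_⟩)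
        refine Subtype.ext (Units.ext (Matrix.ext fun s t => ?_))
        show j (((k.1 : GL (Fin m ⊕ Fin m) F₀) : Matrix _ _ F₀) s t) = Matrix.scalar _ (j (w : F₀)) s t
        rw [← hw]
        simp [Matrix.scalar_apply, Matrix.diagonal_apply, apply_ite j]
    haveI : ((Cfsg.Geo.scalars (Fin m ⊕ Fin m) F₀).subgroupOf (Cfsg.GSp m F₀)).Normal := by
      rw [← hker]; infer_instance
    let e0 : C ≃* Cfsg.PGSp m F₀ :=
      (QuotientGroup.quotientKerEquivOfSurjective Φ hΦs).symm.trans (QuotientGroup.quotientMulEquivOfEq hker)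
    refine ⟨MulEquiv.trans ?_ e0⟩
    refine (MulEquiv.subgroupCongr ?_).trans ((MulAut.conj a).subgroupMap C).symm
    ext y
    rw [Subgroup.mem_map, Subgroup.mem_inf, Subgroup.mem_centralizer_singleton_iff]
    constructor
    · rintro ⟨hy, hc⟩
      refine ⟨a⁻¹ * y * a, ⟨?_, ?_⟩, by show a * (a⁻¹ * y * a) * a⁻¹ = y; group⟩
      · have := (hnorm a⁻¹ y).mpr hy; rwa [inv_inv] at this
      · show _ ∈ Subgroup.centralizer _
        rw [Subgroup.mem_centralizer_singleton_iff]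
        calc a⁻¹ * y * a * fld σ = a⁻¹ * (y * (a * fld σ * a⁻¹)) * a := by group
          _ = a⁻¹ * (a * fld σ * a⁻¹ * y) * a := by rw [hc]
          _ = _ := by group
    · rintro ⟨z, ⟨hz, hzc⟩, rfl⟩
      replace hzc : z * fld σ = fld σ * z := Subgroup.mem_centralizer_singleton_iff.mp hzc
      refine ⟨(hnorm a z).mpr hz, ?_⟩
      show a * z * a⁻¹ * (a * fld σ * a⁻¹) = a * fld σ * a⁻¹ * (a * z * a⁻¹)
      calc a * z * a⁻¹ * (a * fld σ * a⁻¹) = a * (z * fld σ) * a⁻¹ := by group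
        _ = a * (fld σ * z) * a⁻¹ := by rw [hzc]
        _ = _ := by group
  · rw [splitClassCount_normalised _ _ a _ (hnorm a) (hInn a),
      AutPSL.card_quot_conj _ _ inn_le_range (fun b _ k hk => (hInn b k).mpr hk)]
    set A := (Units.map (j : F₀ →* F)).range
    set S := A ⊔ (powMonoidHom 2 : Fˣ →* Fˣ).range
    set C := N ⊓ Subgroup.centralizer {(fld σ : MulAut PSpm)}
    have hsc : ∀ u : Fˣ, multHom hm1 (scG (m := m) u) = u ^ 2 := fun u => Units.ext (multHom_eq hm1 _ fun x y => by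
      rw [scG_mulVec, scG_mulVec, sympForm_smul_left, sympForm_smul_right, Units.val_pow_eq_pow_val, sq, mul_assoc])
    have hjm : ∀ k, multHom hm1 (jG k) ∈ A := fun k => ⟨multHom hm1 k, Units.ext (multHom_eq hm1 _ (by
      intro u v
      obtain ⟨μ, hμ⟩ := hmap k
      rw [show ((Units.map (j : F₀ →* F) (multHom hm1 k) : Fˣ) : F) = (μ : F) from ?_]
      · exact hμ u v
      · have h1 := hμ (Fv ⟨0, hm1⟩) (E ⟨0, hm1⟩)
        have h2 := congrArg j (multHom_spec hm1 k (Fv ⟨0, hm1⟩) (E ⟨0, hm1⟩))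
        simp [sympForm_eq_sum, E, Fv, Matrix.mulVec_single_one, Pi.single_apply, apply_ite j] at h1 h2
        exact h2.symm.trans h1)).symm⟩
    have hcomap : (C ⊔ Cfsg.Inn PSpm).comap dia = S.comap (multHom hm1) := by
      apply le_antisymm
      · intro g hg
        have hle : C ⊔ Cfsg.Inn PSpm ≤ (S.comap (multHom hm1)).map dia := by
          refine sup_le ?_ ?_
          · rintro y ⟨⟨g, rfl⟩, hc⟩
            obtain ⟨k, u, rfl⟩ := hsurj g ((hcent g).mp hc)
            refine ⟨_, ?_, rfl⟩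
            show multHom hm1 (jG k * scG u) ∈ S
            rw [map_mul, hsc]
            exact mul_mem (Subgroup.mem_sup_left (hjm k)) (Subgroup.mem_sup_right ⟨u, rfl⟩)
          · rintro _ ⟨y, rfl⟩
            obtain ⟨s, rfl⟩ := pr_surjective y
            refine ⟨spG s, ?_, dia_spG s⟩
            show multHom hm1 (spG s) ∈ S
            rw [show multHom hm1 (spG s) = 1 from Units.ext (multHom_eq hm1 _ fun u v => by
              rw [Units.val_one, one_mul]; exact sp_form s u v)]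
            exact one_mem S
        obtain ⟨g', hg', e⟩ := hle hg
        obtain ⟨u, hu⟩ := (dia_eq_one_iff p hm1 (g'⁻¹ * g)).mp (by rw [map_mul, map_inv, e, inv_mul_cancel])
        show multHom hm1 g ∈ S
        rw [show g = g' * (g'⁻¹ * g) by group, map_mul, hu, hsc]
        exact mul_mem hg' (Subgroup.mem_sup_right ⟨u, rfl⟩)
      · intro g hg
        obtain ⟨_, ⟨w, rfl⟩, _, ⟨u, rfl⟩, hab⟩ := Subgroup.mem_sup.mp (show multHom hm1 g ∈ S from hg)
        set k := jG (diagMult w)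
        have hk : multHom hm1 k = Units.map (j : F₀ →* F) w := by
          obtain ⟨μ, hμ⟩ := hmap (diagMult w)
          refine Units.ext (multHom_eq hm1 _ fun x y => ?_)
          rw [show ((Units.map (j : F₀ →* F) w : Fˣ) : F) = (μ : F) from ?_]
          · exact hμ x y
          · have h1 := hμ (Fv ⟨0, hm1⟩) (E ⟨0, hm1⟩)
            simp [diagMult, sympForm_eq_sum, E, Fv, Matrix.mulVec_single_one, Pi.single_apply, apply_ite j] at h1
            exact h1
        set h := (k * scG u)⁻¹ * g with hh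
        have hh1 : multHom hm1 h = 1 := by
          rw [hh, map_mul, map_inv, map_mul, hk, hsc, ← hab, powMonoidHom_apply, inv_mul_cancel]
        have hmem : ((h : GLm) : Mat) ∈ Matrix.symplecticGroup (Fin m) F :=
          mem_symplecticGroup_iff_form.mpr fun x y => by rw [multHom_spec hm1 h, hh1, Units.val_one, one_mul]
        show dia g ∈ C ⊔ Cfsg.Inn PSpm
        rw [show g = k * scG u * h by rw [hh, mul_inv_cancel_left], map_mul, map_mul,
          (dia_eq_one_iff p hm1 (scG u)).mpr ⟨u, rfl⟩, mul_one,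
          show h = spG ⟨_, hmem⟩ from Subtype.ext (Units.ext rfl), dia_spG]
        refine Subgroup.mul_mem_sup ⟨⟨k, rfl⟩, (hcent _).mpr ⟨1, ?_⟩⟩ ⟨_, rfl⟩
        rw [hjfix, inv_mul_cancel]; exact (Subtype.ext (map_one _)).symm
    have hidx : (C ⊔ Cfsg.Inn PSpm).relIndex N = S.index := by
      rw [hN, MonoidHom.range_eq_map, ← Subgroup.relIndex_comap, hcomap, Subgroup.relIndex_top_right,
        Subgroup.index_comap_of_surjective _ (multHom_surjective hm1)]
    rw [hidx, AutPSL.index_sup_range_pow,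
      ← Nat.card_congr (MonoidHom.ofInjective (Units.map_injective (f := (j : F₀ →* F)) j.injective)).toEquiv,
      Nat.card_units, Nat.card_units, Nat.card_eq_fintype_card, Nat.card_eq_fintype_card, hF₀, hF]
    set q₀ := p ^ (f / r) with hq₀
    have hq : p ^ f = q₀ ^ r := by rw [hq₀, ← pow_mul, Nat.div_mul_cancel hrf]
    have hq2 : 2 ≤ q₀ := by rw [← hF₀]; exact Fintype.one_lt_card
    have hgeo : (p ^ f - 1) / (q₀ - 1) = ∑ i ∈ Finset.range r, q₀ ^ i := by
      rw [hq, Nat.geomSum_eq hq2]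
    clear_value q₀
    have hpar : ∀ n, (∑ i ∈ Finset.range n, q₀ ^ i) % 2 = if q₀ % 2 = 0 then (if n = 0 then 0 else 1) else n % 2 := by
      intro n
      induction n with
      | zero => simp
      | succ n ih =>
        rw [Finset.sum_range_succ, Nat.add_mod, ih, Nat.pow_mod]
        rcases Nat.mod_two_eq_zero_or_one q₀ with h | h
        · rcases n with _ | n <;> simp [h]
        · simp [h]
    have hqpar : (p ^ f - 1) % 2 = if q₀ % 2 = 0 then 1 else 0 := by
      have h1 : 1 ≤ q₀ ^ r := Nat.one_le_pow _ _ (by omega)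
      have h2 : q₀ ^ r % 2 = q₀ % 2 := by
        rw [Nat.pow_mod]
        rcases Nat.mod_two_eq_zero_or_one q₀ with h | h <;> simp [h, hr.ne_zero]
      rw [hq]
      split_ifs <;> omega
    rw [hgeo, Nat.gcd_rec 2, Nat.gcd_rec 2 (p ^ f - 1), hpar, hqpar, if_neg hr.ne_zero]
    split_ifs with h
    · simp
    · rw [Nat.gcd_zero_left, ← Nat.gcd_rec]

end Cfsg.Agent.Lib.Classical.AutPSp
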