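import Cfsg.Prelude.Def_LieTypeDatum
import Cfsg.Agent.Lib.Classical.SympGroup

/-!
Automorphisms of `PSp_{2m}(q)`, part 1: transvections in `PSp`, the conformal and field
automorphisms.
-/

set_option autoImplicit false

namespace Cfsg.Agent.Lib.Classical.AutPSp

open Matrix
open Cfsg.Agent.Lib.Geometry Cfsg.Agent.Lib.Classical

variable {F : Type*} [Field F] {m : ℕ}

set_option quotPrecheck false in
local notation "Spm" => Subtype (fun A => A ∈ Matrix.symplecticGroup (Fin m) F)
set_option quotPrecheck false in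
local notation "Vm" => (Fin m ⊕ Fin m → F)
set_option quotPrecheck false in
local notation "Mat" => Matrix (Fin m ⊕ Fin m) (Fin m ⊕ Fin m) F
set_option quotPrecheck false in
local notation "GLm" => GL (Fin m ⊕ Fin m) F
set_option quotPrecheck false in
local notation "PSpm" => Cfsg.PSp m F
set_option quotPrecheck false in
local notation "ω" => Cfsg.sympForm m F

/-- The projection. -/
def pr : Spm →* PSpm := QuotientGroup.mk' _

theorem pr_surjective : Function.Surjective (pr (F := F) (m := m)) := QuotientGroup.mk'_surjective _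

theorem pr_eq_one {x : Spm} : pr x = 1 ↔ x ∈ Subgroup.center Spm := QuotientGroup.eq_one_iff x

/-- The image of a transvection. -/
noncomputable def tau (v : Vm) (c : F) : PSpm := pr (spT v c)

theorem tau_add (v : Vm) (c d : F) : tau v c * tau v d = tau v (c + d) := by
  rw [tau, tau, ← map_mul, spT_add]; rfl

theorem tau_zero (v : Vm) : tau v (0 : F) = 1 := by rw [tau, spT_zero, map_one]

theorem tau_conj (g : Spm) (v : Vm) (c : F) : pr g * tau v c * (pr g)⁻¹ = tau (g.1 *ᵥ v) c := by
  rw [tau, ← map_inv, ← map_mul, ← map_mul, spT_conj]; rfl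

theorem tau_smul (a : F) (v : Vm) (c : F) : tau (a • v) c = tau v (c * a * a) := by
  rw [tau, spT_smul]; rfl

theorem spT_pow (v : Vm) (c : F) (k : ℕ) : spT v c ^ k = spT v ((k : F) * c) := by
  induction k with
  | zero => rw [pow_zero, Nat.cast_zero, zero_mul, spT_zero]
  | succ k ih => rw [pow_succ, ih, spT_add, Nat.cast_succ, add_one_mul]

theorem spT_pow_char (p : ℕ) [CharP F p] (v : Vm) (c : F) : spT v c ^ p = 1 := by
  rw [spT_pow, CharP.cast_eq_zero, zero_mul, spT_zero]

variable (p : ℕ) [Fact p.Prime] [CharP F p]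

/-- Lifts of `p`-elements. -/
theorem eq_one_of_central_pow (hm : 1 ≤ m) {z : Spm} (hz : z ∈ Subgroup.center Spm) {k : ℕ}
    (h : z ^ p ^ k = 1) : z = 1 := by
  rcases (mem_center_sp_iff hm z).mp hz with e | e
  · exact Subtype.ext e
  · haveI : ExpChar F p := ExpChar.prime Fact.out
    have hs : ∀ j : ℕ, (-1 : F) ^ p ^ j = -1 := by
      intro j
      induction j with
      | zero => rw [pow_zero, pow_one]
      | succ j ih => rw [pow_succ, pow_mul, ih, ← frobenius_def, map_neg, map_one]
    have h1 := congrArg (fun g : Spm => g.1) h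
    simp only [SubmonoidClass.coe_pow, Submonoid.coe_one] at h1
    have hm1 : z.1 = algebraMap F Mat (-1) := by rw [e, map_neg, map_one]
    rw [hm1, ← map_pow, hs] at h1
    exact Subtype.ext (hm1.trans h1)

theorem eq_of_pr_eq (hm : 1 ≤ m) {x y : Spm} (hx : x ^ p = 1) (hy : y ^ p = 1) (h : pr x = pr y) :
    x = y := by
  have hz : x⁻¹ * y ∈ Subgroup.center Spm := QuotientGroup.eq.mp h
  refine inv_mul_eq_one.mp (eq_one_of_central_pow p hm hz (k := 1) ?_)
  have hc : Commute x (x⁻¹ * y) := Subgroup.mem_center_iff.mp hz x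
  have h2 : (x * (x⁻¹ * y)) ^ p = x ^ p * (x⁻¹ * y) ^ p := hc.mul_pow p
  rw [mul_inv_cancel_left, hy, hx, one_mul] at h2
  rw [pow_one, ← h2]

/-- Equal non-trivial transvections have parallel axes. -/
theorem spT_eq_imp {v w : Vm} (hv : v ≠ 0) {c d : F} (hc : c ≠ 0) (h : spT v c = spT w d) :
    ∃ a : F, a ≠ 0 ∧ w = a • v ∧ d * a * a = c := by
  obtain ⟨x, hx⟩ := exists_sympForm_eq_one hv
  have h1 := congrArg (fun g : Spm => g.1 *ᵥ x) h
  simp only [spT_mulVec, add_right_inj] at h1
  rw [sympForm_swap x v, hx] at h1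
  set b := d * ω x w
  have hb : b ≠ 0 := fun e => by
    rw [e, zero_smul, smul_eq_zero] at h1
    rcases h1 with h1 | h1
    · exact hc (by simpa using h1)
    · exact hv h1
  refine ⟨b⁻¹ * (c * -1), by simp [hb, hc], ?_, ?_⟩
  · rw [mul_smul, h1, inv_smul_smul₀ hb]
  · set a := b⁻¹ * (c * -1)
    have hw : w = a • v := by rw [mul_smul, h1, inv_smul_smul₀ hb]
    have h2 : spT v c = spT v (d * a * a) := by rw [h, hw, spT_smul]
    have h3 := congrArg (fun g : Spm => g.1 *ᵥ x) h2
    simp only [spT_mulVec, add_right_inj] at h3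
    have h4 := smul_left_injective F hv h3
    rw [sympForm_swap x v, hx, mul_neg_one, mul_neg_one] at h4
    exact (neg_injective h4).symm

include p in
theorem tau_eq_imp (hm : 1 ≤ m) {v w : Vm} (hv : v ≠ 0) {c d : F} (hc : c ≠ 0)
    (h : tau v c = tau w d) : ∃ a : F, a ≠ 0 ∧ w = a • v ∧ d * a * a = c :=
  spT_eq_imp hv hc (eq_of_pr_eq p hm (spT_pow_char p v c) (spT_pow_char p w d) h)

include p in
theorem tau_injective (hm : 1 ≤ m) {v : Vm} (hv : v ≠ 0) : Function.Injective (tau (m := m) v : F → PSpm) := by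
  intro c d h
  by_contra hne
  have h0 : tau v (c - d) = tau v (0 : F) := by
    have h1 : tau v (c - d) * tau v d = tau v 0 * tau v d := by
      rw [tau_add, tau_add, sub_add_cancel, zero_add, h]
    exact mul_right_cancel h1
  obtain ⟨a, -, -, ha⟩ := tau_eq_imp p hm hv (sub_ne_zero.mpr hne) h0
  exact hne (sub_eq_zero.mp (by rw [← ha, zero_mul, zero_mul]))

include p in
/-- Transvections commute exactly when their axes are orthogonal. -/
theorem tau_commute_iff (hm : 1 ≤ m) {v w : Vm} (hv : v ≠ 0) (hw : w ≠ 0) {c d : F} (hc : c ≠ 0)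
    (hd : d ≠ 0) : tau v c * tau w d = tau w d * tau v c ↔ ω v w = 0 := by
  constructor
  · intro h
    have h1 : tau ((spT v c).1 *ᵥ w) d = tau w d := by
      rw [← tau_conj, show pr (spT v c) = tau v c from rfl, h, mul_inv_cancel_right]
    obtain ⟨a, -, hw', -⟩ := tau_eq_imp p hm hw hd h1.symm
    rw [spT_mulVec] at hw'
    by_contra hne
    have hne' : ω w v ≠ 0 := fun e => hne (by rw [sympForm_swap, e, neg_zero])
    have hv' : v = ((a - 1) / (c * ω w v)) • w := by
      have e : (c * ω w v) • v = (a - 1) • w := by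
        rw [sub_smul, one_smul, ← hw', add_sub_cancel_left]
      rw [div_eq_inv_mul, mul_smul, ← e, inv_smul_smul₀ (mul_ne_zero hc hne')]
    refine hne ?_
    rw [hv', sympForm_smul_left, sympForm_self, mul_zero]
  · intro h
    have h1 : pr (spT v c) * tau w d * (pr (spT v c))⁻¹ = tau w d := by
      rw [tau_conj, spT_mulVec, sympForm_swap w v, h, neg_zero, mul_zero, zero_smul, add_zero]
    exact mul_inv_eq_iff_eq_mul.mp h1

omit [Fact p.Prime] [CharP F p] in
/-- Automorphisms agreeing on transvections are equal. -/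
theorem mulAut_ext {α β : MulAut PSpm} (h : ∀ (v : Vm) (c : F), α (tau v c) = β (tau v c)) : α = β := by
  have htop : ((MonoidHom.eqLocus (α.toMonoidHom.comp pr) (β.toMonoidHom.comp pr)) : Subgroup Spm) = ⊤ :=
    sp_eq_top_of_transvections fun v c => h v c
  refine MulEquiv.ext fun x => ?_
  obtain ⟨s, rfl⟩ := pr_surjective x
  exact (Subgroup.eq_top_iff' _).mp htop s

/-! ### Conformal and field automorphisms -/

/-- An automorphism of a group, acting on the quotient by the centre. -/
def pAut {G : Type*} [Group G] : MulAut G →* MulAut (G ⧸ Subgroup.center G) where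
  toFun e := QuotientGroup.congr _ _ e (Subgroup.characteristic_iff_map_eq.mp inferInstance e)
  map_one' := by
    refine MulEquiv.ext fun x => ?_
    induction x using QuotientGroup.induction_on with | _ s => rfl
  map_mul' e e' := by
    refine MulEquiv.ext fun x => ?_
    induction x using QuotientGroup.induction_on with | _ s => rfl

omit [Fact p.Prime] [CharP F p] in
theorem gsp_mult {h : GLm} (hh : h ∈ Cfsg.GSp m F) :
    ∃ μ : Fˣ, ∀ u v, ω ((h : Mat) *ᵥ u) ((h : Mat) *ᵥ v) = (μ : F) * ω u v := hh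

omit [Fact p.Prime] [CharP F p] in
theorem gsp_conj_mem (h : Cfsg.GSp m F) (s : Spm) :
    ((h : GLm) : Mat) * s.1 * (((h : GLm)⁻¹ : GLm) : Mat) ∈ Matrix.symplecticGroup (Fin m) F := by
  obtain ⟨μ, hμ⟩ := gsp_mult h.2
  obtain ⟨ν, hν⟩ := gsp_mult (inv_mem h.2)
  refine mem_symplecticGroup_iff_form.mpr fun u v => ?_
  have h1 : (μ : F) * (ν : F) = 1 ∨ ω u v = 0 := by
    by_cases hz : ω u v = 0
    · exact Or.inr hz
    · left
      have e := hμ ((((h : GLm)⁻¹ : GLm) : Mat) *ᵥ u) ((((h : GLm)⁻¹ : GLm) : Mat) *ᵥ v)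
      rw [Matrix.mulVec_mulVec, Matrix.mulVec_mulVec, ← Units.val_mul, mul_inv_cancel, Units.val_one,
        Matrix.one_mulVec, Matrix.one_mulVec, hν, ← mul_assoc] at e
      exact mul_right_cancel₀ hz (e.symm.trans (one_mul _).symm)
  simp only [← Matrix.mulVec_mulVec]
  rw [hμ, sp_form, hν, ← mul_assoc]
  rcases h1 with h1 | h1 <;> simp [h1]

/-- Conjugation on `Sp` by a conformal symplectic matrix. -/
def conjSp : Cfsg.GSp m F →* MulAut Spm where
  toFun h :=
    { toFun := fun s => ⟨_, gsp_conj_mem h s⟩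
      invFun := fun s => ⟨_, gsp_conj_mem h⁻¹ s⟩
      left_inv := fun s => Subtype.ext (by simp [mul_assoc])
      right_inv := fun s => Subtype.ext (by simp [mul_assoc])
      map_mul' := fun s t => Subtype.ext (by simp [mul_assoc]) }
  map_one' := MulEquiv.ext fun s => Subtype.ext (by simp)
  map_mul' h k := MulEquiv.ext fun s => Subtype.ext (by simp [mul_assoc])

/-- The inner-diagonal automorphisms. -/
def dia : Cfsg.GSp m F →* MulAut PSpm := pAut.comp conjSp

omit [Fact p.Prime] [CharP F p] in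
theorem dia_pr (h : Cfsg.GSp m F) (s : Spm) : dia h (pr s) = pr (conjSp h s) := rfl

omit [Fact p.Prime] [CharP F p] in
theorem dia_tau (h : Cfsg.GSp m F) {μ : Fˣ}
    (hμ : ∀ u v, ω (((h : GLm) : Mat) *ᵥ u) (((h : GLm) : Mat) *ᵥ v) = (μ : F) * ω u v) (v : Vm) (c : F) :
    dia h (tau v c) = tau (((h : GLm) : Mat) *ᵥ v) (c / μ) := by
  rw [tau, dia_pr]
  refine congrArg pr (sp_ext fun x => ?_)
  show (((h : GLm) : Mat) * (spT v c).1 * (((h : GLm)⁻¹ : GLm) : Mat)) *ᵥ x = _
  set y := (((h : GLm)⁻¹ : GLm) : Mat) *ᵥ x with hy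
  have hx : ((h : GLm) : Mat) *ᵥ y = x := by
    rw [hy, Matrix.mulVec_mulVec, ← Units.val_mul, mul_inv_cancel, Units.val_one, Matrix.one_mulVec]
  rw [← Matrix.mulVec_mulVec, ← Matrix.mulVec_mulVec, ← hy, spT_mulVec, spT_mulVec, Matrix.mulVec_add,
    Matrix.mulVec_smul, hx]
  conv_rhs => rw [← hx, hμ, hx, div_mul_eq_mul_div, mul_left_comm, mul_div_cancel_left₀ _ μ.ne_zero]

omit [Fact p.Prime] [CharP F p] in
theorem sympForm_map (σ : F ≃+* F) (u v : Vm) :
    ω (fun i => σ (u i)) (fun i => σ (v i)) = σ (ω u v) := by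
  simp [sympForm_eq_sum]

omit [Fact p.Prime] [CharP F p] in
theorem map_mulVec' (σ : F ≃+* F) (A : Mat) (x : Vm) :
    A.map σ *ᵥ (fun i => σ (x i)) = fun i => σ ((A *ᵥ x) i) :=
  funext fun i => (RingHom.map_mulVec σ.toRingHom A x i).symm

omit [Fact p.Prime] [CharP F p] in
theorem map_mem_sp (σ : F ≃+* F) (s : Spm) : s.1.map σ ∈ Matrix.symplecticGroup (Fin m) F := by
  refine mem_symplecticGroup_iff_form.mpr fun u v => ?_
  have hu : u = fun i => σ ((fun j => σ.symm (u j)) i) := funext fun i => (σ.apply_symm_apply _).symm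
  have hv : v = fun i => σ ((fun j => σ.symm (v j)) i) := funext fun i => (σ.apply_symm_apply _).symm
  rw [hu, hv, map_mulVec', map_mulVec', sympForm_map, sympForm_map, sp_form]

/-- The field automorphisms of `Sp`. -/
def mapSp : (F ≃+* F) →* MulAut Spm where
  toFun σ :=
    { toFun := fun s => ⟨_, map_mem_sp σ s⟩
      invFun := fun s => ⟨_, map_mem_sp σ.symm s⟩
      left_inv := fun s => Subtype.ext (Matrix.ext fun i j => σ.symm_apply_apply _)
      right_inv := fun s => Subtype.ext (Matrix.ext fun i j => σ.apply_symm_apply _)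
      map_mul' := fun s t => Subtype.ext (Matrix.map_mul (f := σ)) }
  map_one' := MulEquiv.ext fun s => Subtype.ext (Matrix.ext fun i j => rfl)
  map_mul' σ τ := MulEquiv.ext fun s => Subtype.ext (Matrix.ext fun i j => rfl)

/-- The standard field automorphisms. -/
def fld : (F ≃+* F) →* MulAut PSpm := pAut.comp mapSp

omit [Fact p.Prime] [CharP F p] in
theorem fld_tau (σ : F ≃+* F) (v : Vm) (c : F) :
    fld σ (tau v c) = tau (fun i => σ (v i)) (σ c) := by
  show pr (mapSp σ (spT v c)) = _
  refine congrArg pr (sp_ext fun x => ?_)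
  show (spT v c).1.map σ *ᵥ x = _
  have hx : x = fun i => σ ((fun j => σ.symm (x j)) i) := funext fun i => (σ.apply_symm_apply _).symm
  rw [spT_mulVec]
  conv_lhs => rw [hx, map_mulVec', spT_mulVec]
  conv_rhs => rw [hx, sympForm_map]
  funext i
  simp

omit [Fact p.Prime] [CharP F p] in
theorem isInduced_dia_fld (h : Cfsg.GSp m F) (σ : F ≃+* F) :
    Cfsg.IsInducedBySemilinearPSp (h : GLm) σ (dia h * fld σ : MulAut PSpm) := by
  intro s s' e
  show dia h (fld σ (pr s)) = pr s'
  show dia h (pr (mapSp σ s)) = pr s'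
  rw [dia_pr]
  exact congrArg pr (Subtype.ext e.symm)

end Cfsg.Agent.Lib.Classical.AutPSp
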