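import Cfsg.Agent.Lib.Classical.AutPSp.Descent
import Cfsg.Agent.Lib.Classical.SpFourTwo
import Cfsg.Agent.Lib.Classical.SocleCriterion

/-!
Automorphisms of `PSp`, part 6: cores of centralizers in almost simple groups with symplectic socle.
-/

set_option autoImplicit false

namespace Cfsg.Agent.Lib.Classical.AutPSp

open Matrix
open Cfsg.Agent.Lib.Geometry Cfsg.Agent.Lib.Classical

variable {F : Type*} [Field F] {m : ℕ}

set_option quotPrecheck false in
local notation "Spm" => Subtype (fun A => A ∈ Matrix.symplecticGroup (Fin m) F)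
set_option quotPrecheck false in
local notation "Mat" => Matrix (Fin m ⊕ Fin m) (Fin m ⊕ Fin m) F
set_option quotPrecheck false in
local notation "GLm" => GL (Fin m ⊕ Fin m) F
set_option quotPrecheck false in
local notation "PSpm" => Cfsg.PSp m F

variable {F₀ : Type*} [Field F₀] (j : F₀ →+* F)

/-- Symplectic matrices over a subfield. -/
def jSp : Subtype (fun A => A ∈ Matrix.symplecticGroup (Fin m) F₀) →* Spm :=
  MonoidHom.mk' (fun t => ⟨t.1.map j, by
    rw [SymplecticGroup.mem_iff, ← Matrix.transpose_map,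
      show Matrix.J (Fin m) F = (Matrix.J (Fin m) F₀).map j by
        ext a b; rcases a with a | a <;> rcases b with b | b <;> simp [Matrix.J, Matrix.one_apply, apply_ite j],
      ← Matrix.map_mul, ← Matrix.map_mul, SymplecticGroup.mem_iff.mp t.2]⟩)
    fun a b => Subtype.ext (Matrix.map_mul (f := j))

theorem jG_scG (u : F₀ˣ) : jG j (scG (m := m) u) = scG (Units.map (j : F₀ →* F) u) := by
  refine Subtype.ext (Units.ext ?_)
  show (Matrix.scalar _ (u : F₀)).map j = Matrix.scalar _ (j (u : F₀))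
  simp [Matrix.scalar_apply, Matrix.diagonal_map]

theorem jG_spG (t : Subtype (fun A => A ∈ Matrix.symplecticGroup (Fin m) F₀)) :
    jG j (spG t) = spG (jSp j t) := by
  refine Subtype.ext (Units.ext ?_)
  show ((spToGL m F₀ t : GL (Fin m ⊕ Fin m) F₀) : Matrix (Fin m ⊕ Fin m) (Fin m ⊕ Fin m) F₀).map j =
    ((spToGL m F (jSp j t) : GLm) : Mat)
  rw [spToGL_coe, spToGL_coe]
  rfl

theorem jSp_spT (i : Fin m) : jSp j (spT (E i) (1 : F₀)) = spT (E i) (1 : F) := by
  refine Subtype.ext (Matrix.ext_of_mulVec_single fun k => ?_)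
  rw [spT_mulVec]
  show ((spT (E i) (1 : F₀)).1.map j) *ᵥ Pi.single k 1 = _
  rw [show ((spT (E i) (1 : F₀)).1.map j) *ᵥ Pi.single k 1 =
    fun l => j (((spT (E i) (1 : F₀)).1 *ᵥ Pi.single k 1) l) from funext fun l => by simp [Matrix.mulVec_single_one],
    spT_mulVec]
  funext l
  simp [sympForm_eq_sum, E, Pi.single_apply, apply_ite j]
  split_ifs <;> simp [Pi.single_apply, apply_ite j]

variable [Fintype F] (p : ℕ) [Fact p.Prime] [CharP F p]

omit [Fintype F] in
include p in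
theorem psp_hZ (hm : 1 ≤ m) (k : PSpm) (hk : MulAut.conj k = 1) : k = 1 := by
  obtain ⟨s, rfl⟩ := pr_surjective k
  obtain ⟨u, hu⟩ := (dia_eq_one_iff p hm (spG s)).mp (by rw [dia_spG]; exact hk)
  rw [pr_eq_one, Subgroup.mem_center_iff]
  intro t
  have hs : s.1 = Matrix.scalar (Fin m ⊕ Fin m) (u : F) := by
    have h := congrArg (fun g : Cfsg.GSp m F => ((g : GLm) : Mat)) hu
    change ((spToGL m F s : GLm) : Mat) = _ at h
    rwa [spToGL_coe] at h
  refine Subtype.ext ?_
  show t.1 * s.1 = s.1 * t.1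
  rw [hs]
  exact ((Matrix.scalar_commute (u : F) (fun r => mul_comm _ _) t.1).eq).symm

include p in
/-- An automorphism fixing a transvection is diagonal times field. -/
theorem decomposition_of_fix (hm : 2 ≤ m) {γ : MulAut PSpm}
    (h : γ (tau (E ⟨0, by omega⟩) 1) = tau (E ⟨0, by omega⟩) 1) :
    ∃ (g : Cfsg.GSp m F) (σ : F ≃+* F), γ = dia g * fld σ := by
  by_cases hm2 : m = 2 ∧ p = 2
  · obtain ⟨rfl, rfl⟩ := hm2
    exact decomposition_of_img 2 le_rfl γ (SpFour.img_of_one h (E_ne_zero _))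
  · exact decomposition p hm (fun e e' => hm2 ⟨e, e'⟩) γ

/-- The fixed points of a standard field automorphism of prime order. -/
theorem props_fld [Fintype F₀] (hm : 2 ≤ m) {ℓ : ℕ} [Fact ℓ.Prime]
    (hT₀ : ∀ N : Subgroup (Cfsg.PSp m F₀), N.Normal → N ≠ ⊥ → ℓ ∣ Nat.card (Cfsg.PSp m F₀) → ℓ ∣ Nat.card N)
    {σ : F ≃+* F} (hσ : orderOf σ = ℓ) (hcard : Fintype.card F = Fintype.card F₀ ^ ℓ) {j : F₀ →+* F}
    (hj : ∀ t, σ t = t ↔ ∃ s, j s = t) (p : ℕ) [Fact p.Prime] [CharP F p] [CharP F₀ p] :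
    CoreCriterion.Props ℓ (fld σ : MulAut PSpm) := by
  classical
  have hm1 : 1 ≤ m := by omega
  have hℓ : ℓ.Prime := Fact.out
  have hσ1 : σ ≠ 1 := fun e => by rw [e, orderOf_one] at hσ; exact hℓ.one_lt.ne hσ
  set φ : MulAut PSpm := fld σ
  let ι₀ : Subtype (fun A => A ∈ Matrix.symplecticGroup (Fin m) F₀) →* PSpm := pr.comp (jSp j)
  have hker : ∀ t, ι₀ t = 1 → pr t = 1 := fun t h => by
    rw [pr_eq_one, mem_center_sp_iff hm1]
    have h' : (jSp j t) ∈ Subgroup.center Spm := pr_eq_one.mp h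
    rcases (mem_center_sp_iff hm1 _).mp h' with e | e
    · left
      refine Matrix.map_injective j.injective ?_
      exact e.trans (Matrix.map_one j (map_zero j) (map_one j)).symm
    · right
      refine Matrix.map_injective j.injective ?_
      refine e.trans ?_
      ext a b
      simp [Matrix.one_apply, apply_ite j]
  have hιfix : ∀ t, φ (ι₀ t) = ι₀ t := fun t => by
    show pr (mapSp σ (jSp j t)) = pr (jSp j t)
    exact congrArg pr (Subtype.ext (Matrix.ext fun a b => (hj _).mpr ⟨_, rfl⟩))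
  have hgal : ∀ k, galG σ (jG (m := m) j k) = jG j k := fun k =>
    Subtype.ext (Units.ext (Matrix.ext fun s t => (hj _).mpr ⟨_, rfl⟩))
  have hdia : ∀ g, dia g * φ = φ * dia g → ∃ k u, g = jG j k * scG u := fun g h => by
    refine exists_jG_mul_scG j hm1 hℓ (hσ ▸ pow_orderOf_eq_one σ) hσ1 hj g ?_
    rw [fld_mul_dia, mul_left_inj] at h
    exact (dia_eq_one_iff p hm1 _).mp (by rw [map_mul, map_inv, ← h, inv_mul_cancel])
  have hscal : ∀ u, dia (scG (m := m) u : Cfsg.GSp m F) = 1 := fun u => (dia_eq_one_iff p hm1 _).mpr ⟨u, rfl⟩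
  have hconjT : ∀ k t, dia (jG j k) (ι₀ t) = ι₀ (conjSp k t) := fun k t => by
    show pr (conjSp (jG j k) (jSp j t)) = pr (jSp j (conjSp k t))
    refine congrArg pr (Subtype.ext ?_)
    show ((jG j k : GLm) : Mat) * t.1.map j * ((((jG j k) : GLm)⁻¹ : GLm) : Mat) =
      (((k : GL (Fin m ⊕ Fin m) F₀) : Matrix _ _ F₀) * t.1 * (((k : GL (Fin m ⊕ Fin m) F₀)⁻¹ : GL _ F₀) : Matrix _ _ F₀)).map j
    rw [Matrix.map_mul, Matrix.map_mul]
    rfl
  have hYdia : ∀ y, φ y = y → ∃ k, MulAut.conj y = dia (jG j k) := fun y hy => by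
    obtain ⟨s, rfl⟩ := pr_surjective y
    obtain ⟨k, u, hk⟩ := hdia (spG s) (by
      rw [dia_spG]
      refine MulEquiv.ext fun z => ?_
      simp [MulAut.mul_apply, hy])
    exact ⟨k, by rw [← dia_spG, hk, map_mul, hscal, mul_one]⟩
  haveI : Nontrivial ι₀.range := by
    refine ⟨⟨ι₀ (spT (E ⟨0, by omega⟩) 1), _, rfl⟩, 1, fun e => ?_⟩
    have h := congrArg Subtype.val e
    change pr (jSp j (spT (E ⟨0, by omega⟩) 1)) = 1 at h
    rw [jSp_spT] at h
    exact one_ne_zero (α := F) (tau_injective p hm1 (E_ne_zero _) (h.trans (tau_zero _).symm))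
  let f : Cfsg.PSp m F₀ →* ι₀.range := QuotientGroup.lift _ ι₀.rangeRestrict fun z hz => by
    refine Subtype.ext (pr_eq_one.mpr ?_)
    rw [mem_center_sp_iff hm1]
    rcases (mem_center_sp_iff hm1 z).mp hz with e | e
    · left; show z.1.map j = 1; rw [e, Matrix.map_one j (map_zero j) (map_one j)]
    · right; show z.1.map j = -1; rw [e]; ext a b; simp [Matrix.one_apply, apply_ite j]
  have hf : Function.Bijective f := by
    refine ⟨(injective_iff_map_eq_one f).mpr fun z hz => ?_, ?_⟩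
    · obtain ⟨t, rfl⟩ := pr_surjective z
      exact hker t (congrArg Subtype.val hz)
    · rintro ⟨_, t, rfl⟩
      exact ⟨pr t, rfl⟩
  refine CoreCriterion.props_of_socle (psp_hZ p hm1) ι₀.range (by rintro _ ⟨t, rfl⟩; exact hιfix t)
    (fun N hN hne hd => ?_) ?_ ?_ ?_ ?_
  · let e := MulEquiv.ofBijective f hf
    have h1 : Nat.card (N.map e.symm.toMonoidHom) = Nat.card N :=
      Subgroup.card_map_of_injective e.symm.injective
    rw [← h1]
    refine hT₀ _ (hN.map _ e.symm.surjective) ?_ ((Nat.card_congr e.toEquiv).symm ▸ hd)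
    rwa [Ne, Subgroup.map_eq_bot_iff_of_injective _ e.symm.injective]
  · rintro y hy _ ⟨t, rfl⟩
    obtain ⟨k, hk⟩ := hYdia y hy
    refine ⟨conjSp k t, ?_⟩
    rw [← hconjT, ← hk, MulAut.conj_apply]
  · refine CoreCriterion.dvd_of_squares _ (fun y hy => ?_) ?_
    · obtain ⟨k, hk⟩ := hYdia y hy
      set μ := multHom hm1 k
      have hμ : multHom hm1 ((scG (m := m) μ)⁻¹ * (k * k)) = 1 := by
        rw [map_mul, map_inv, map_mul, show multHom hm1 (scG (m := m) μ) = μ * μ from Units.ext (multHom_eq hm1 _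
          fun a b => by rw [scG_mulVec, scG_mulVec, sympForm_smul_left, sympForm_smul_right, Units.val_mul, mul_assoc]),
          inv_mul_cancel]
      set h0 := (scG (m := m) μ)⁻¹ * (k * k) with hh0
      have hmem : ((h0 : GL (Fin m ⊕ Fin m) F₀) : Matrix _ _ F₀) ∈ Matrix.symplecticGroup (Fin m) F₀ :=
        mem_symplecticGroup_iff_form.mpr fun a b => by rw [multHom_spec hm1 h0, hμ, Units.val_one, one_mul]
      refine ⟨⟨_, hmem⟩, eq_of_mul_inv_eq_one (psp_hZ p hm1 _ ?_)⟩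
      rw [map_mul, map_inv, mul_inv_eq_one, map_mul, hk, ← map_mul, ← map_mul]
      show MulAut.conj (pr (jSp j _)) = _
      rw [← dia_spG, ← jG_spG, show k * k = scG μ * h0 by rw [hh0, mul_inv_cancel_left], map_mul, map_mul,
        jG_scG, hscal, one_mul]
      exact congrArg (fun x => dia (jG j x)) (Subtype.ext (Units.ext rfl))
    · have hJ : (⟨_, SymplecticGroup.J_mem (Fin m) F₀⟩ : Subtype (fun A => A ∈ Matrix.symplecticGroup (Fin m) F₀)) =
          ⟨_, SymplecticGroup.J_mem (Fin m) F₀⟩ := rfl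
      set J₀ : Subtype (fun A => A ∈ Matrix.symplecticGroup (Fin m) F₀) := ⟨_, SymplecticGroup.J_mem (Fin m) F₀⟩
      have h2 : orderOf (⟨ι₀ J₀, J₀, rfl⟩ : ι₀.range) = 2 := by
        refine orderOf_eq_prime (Subtype.ext ?_) fun e => ?_
        · show ι₀ J₀ ^ 2 = 1
          rw [← map_pow]
          refine pr_eq_one.mpr ((mem_center_sp_iff hm1 _).mpr (Or.inr ?_))
          rw [map_pow, SubmonoidClass.coe_pow, pow_two]
          show (Matrix.J (Fin m) F₀).map j * (Matrix.J (Fin m) F₀).map j = -1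
          rw [← Matrix.map_mul, Matrix.J_squared]
          ext a b; simp [Matrix.one_apply, apply_ite j]
        · have h := hker J₀ (congrArg Subtype.val e)
          rw [pr_eq_one, mem_center_sp_iff hm1] at h
          have hne : (J₀.1) (Sum.inl ⟨0, by omega⟩) (Sum.inr ⟨0, by omega⟩) = -1 := by
            show Matrix.J (Fin m) F₀ _ _ = _
            simp [Matrix.J]
          rcases h with h | h <;> rw [h] at hne <;> simp at hne
      exact h2 ▸ orderOf_dvd_natCard _
  · intro y hy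
    obtain ⟨s, rfl⟩ := pr_surjective y
    obtain ⟨i, hi⟩ := hy
    refine psp_hZ p hm1 _ ?_
    change φ ^ i = MulAut.conj (pr s) at hi
    rw [← hi]
    rw [← dia_spG, ← map_zpow] at hi
    have h1 := SympAut.eq_one_of_fld_eq_dia p hm1 hi
    show φ ^ i = 1
    rw [← map_zpow, h1, map_one]
  · intro γ hc hγ
    obtain ⟨g, τ, rfl⟩ := decomposition_of_fix p hm (γ := γ) (by
      refine hγ _ ⟨spT (E ⟨0, by omega⟩) 1, ?_⟩
      show pr (jSp j _) = _
      rw [jSp_spT]; rfl)
    haveI : Finite (F ≃+* F) := Finite.of_injective (fun e : F ≃+* F => (e : F → F)) DFunLike.coe_injective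
    obtain ⟨f, -, hF⟩ := FiniteField.card F p
    haveI := (AutPSL.gal_cyclic_card (F := F) hF).1
    have hτσ : τ * σ = σ * τ := (IsCyclic.commutative (α := F ≃+* F)).is_comm.comm τ σ
    obtain ⟨k, u, rfl⟩ := hdia g (by
      have h1 : fld τ * φ = φ * (fld τ : MulAut PSpm) := by
        show fld τ * fld σ = fld σ * fld τ
        rw [← map_mul, hτσ, map_mul]
      rw [mul_assoc, h1, ← mul_assoc] at hc
      rw [← mul_left_inj (fld τ : MulAut PSpm), hc, mul_assoc])
    rw [map_mul, hscal, mul_one] at hγ ⊢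
    have hτj : ∀ t : F₀, ∃ t', j t' = τ (j t) := fun t => (hj _).mp (by
      rw [← RingAut.mul_apply, ← hτσ, RingAut.mul_apply, (hj _).mpr ⟨t, rfl⟩])
    choose τ₁ hτ₁ using hτj
    have hinj : Function.Injective τ₁ := fun a b e => j.injective (τ.injective (by rw [← hτ₁, ← hτ₁, e]))
    let τ₀ : F₀ ≃+* F₀ :=
      { Equiv.ofBijective τ₁ (Finite.injective_iff_bijective.mp hinj) with
        map_mul' := fun a b => j.injective (by
          show j (τ₁ (a * b)) = j (τ₁ a * τ₁ b)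
          rw [map_mul, hτ₁, hτ₁, hτ₁, map_mul, map_mul])
        map_add' := fun a b => j.injective (by
          show j (τ₁ (a + b)) = j (τ₁ a + τ₁ b)
          rw [map_add, hτ₁, hτ₁, hτ₁, map_add, map_add]) }
    have hτ₀ : ∀ t, j (τ₀ t) = τ (j t) := hτ₁
    have hδ : dia k * (fld τ₀ : MulAut (Cfsg.PSp m F₀)) = 1 := by
      refine MulEquiv.ext fun z => ?_
      obtain ⟨t, rfl⟩ := pr_surjective z
      have h1 := hγ (ι₀ t) ⟨t, rfl⟩
      rw [MulAut.mul_apply, show fld τ (ι₀ t) = ι₀ (mapSp τ₀ t) from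
        congrArg pr (Subtype.ext (Matrix.ext fun a b => (hτ₀ _).symm)), hconjT, ← inv_mul_eq_one, ← map_inv,
        ← map_mul] at h1
      have h3 := hker _ h1
      rw [map_mul, map_inv, inv_mul_eq_one] at h3
      exact h3
    have hτ1 : τ₀ = 1 := SympAut.eq_one_of_fld_eq_dia p hm1 (g := k⁻¹) (by
      rw [map_inv]; exact (inv_eq_of_mul_eq_one_right hδ).symm)
    rw [hτ1, map_one, mul_one, dia_eq_one_iff p hm1] at hδ
    obtain ⟨w, rfl⟩ := hδ
    rw [jG_scG, hscal, one_mul]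
    obtain ⟨i, hi⟩ := CoreCriterion.mem_zpowers_of_fix hcard hσ1 (fun t => (hj _).mpr ⟨t, rfl⟩)
      (τ := τ) fun t => by rw [← hτ₀, hτ1]; rfl
    exact ⟨i, show φ ^ i = _ by rw [← map_zpow]; exact congrArg fld hi⟩

include p in
/-- The decomposition of an element of prime order different from the characteristic. -/
theorem decomposition_of_order (hm : 2 ≤ m) {x : MulAut PSpm} {ℓ : ℕ} (hℓ : ℓ.Prime) (hℓp : ℓ ≠ p)
    (hord : orderOf x = ℓ) : ∃ (g : Cfsg.GSp m F) (σ : F ≃+* F), x = dia g * fld σ := by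
  by_cases hm2 : m = 2 ∧ p = 2
  · obtain ⟨rfl, hp2⟩ := hm2
    haveI : CharP F 2 := hp2 ▸ ‹CharP F p›
    obtain ⟨t, ht⟩ := hℓ.odd_of_ne_two (hp2 ▸ hℓp)
    have hmul : ∀ a b : MulAut (Cfsg.PSp 2 F), (∃ g σ, a = dia g * fld σ) → (∃ g σ, b = dia g * fld σ) →
        ∃ (g : Cfsg.GSp 2 F) (σ : F ≃+* F), a * b = dia g * fld σ := by
      rintro a b ⟨g, σ, rfl⟩ ⟨g', σ', rfl⟩
      refine ⟨g * galG σ g', σ * σ', ?_⟩
      rw [map_mul, map_mul, mul_assoc, ← mul_assoc (fld σ), fld_mul_dia, mul_assoc, mul_assoc]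
    have hinv : ∀ a : MulAut (Cfsg.PSp 2 F), (∃ g σ, a = dia g * fld σ) →
        ∃ (g : Cfsg.GSp 2 F) (σ : F ≃+* F), a⁻¹ = dia g * fld σ := by
      rintro a ⟨g, σ, rfl⟩
      refine ⟨galG σ⁻¹ g⁻¹, σ⁻¹, ?_⟩
      rw [_root_.mul_inv_rev, ← map_inv, ← map_inv, fld_mul_dia]
    have hsq : ∀ a : MulAut (Cfsg.PSp 2 F), ∃ (g : Cfsg.GSp 2 F) (σ : F ≃+* F), a * a = dia g * fld σ := by
      intro a
      rcases SpFour.decomposition_or a with h | h
      · exact hmul _ _ h h
      · rcases SpFour.decomposition_or a⁻¹ with h' | h'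
        · have := hinv _ h'
          rw [inv_inv] at this
          exact hmul _ _ this this
        · have := hmul _ _ (hinv _ h') h
          rwa [_root_.mul_inv_rev, inv_inv, mul_assoc, inv_mul_cancel_left] at this
    have hx : x = x ^ (t + 1) * x ^ (t + 1) := by
      rw [← pow_add, show t + 1 + (t + 1) = ℓ + 1 by omega, pow_succ, ← hord, pow_orderOf_eq_one, one_mul]
    rw [hx]
    exact hsq _
  · exact decomposition p hm (fun e e' => hm2 ⟨e, e'⟩) x

/-- Non-trivial normal subgroups of `PSp` absorb the primes other than the characteristic. -/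
theorem normal_card [Fintype F₀] [CharP F₀ p] (hm : 2 ≤ m) {ℓ : ℕ} (hℓ : ℓ.Prime) (hℓp : ℓ ≠ p)
    (N : Subgroup (Cfsg.PSp m F₀)) (hN : N.Normal) (hne : N ≠ ⊥) (hd : ℓ ∣ Nat.card (Cfsg.PSp m F₀)) :
    ℓ ∣ Nat.card N := by
  by_cases h3 : m = 2 → 3 ≤ Fintype.card F₀
  · haveI := isSimpleGroup_psp hm h3
    rcases hN.eq_bot_or_eq_top with h | h
    · exact absurd h hne
    · rwa [h, Subgroup.card_top]
  · rw [_root_.not_imp] at h3
    obtain ⟨rfl, h3⟩ := h3
    have h2 : Fintype.card F₀ = 2 := by have := Fintype.one_lt_card (α := F₀); omega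
    haveI : Fact (Nat.Prime 2) := ⟨Nat.prime_two⟩
    haveI : CharP F₀ 2 := charP_of_card_eq_prime h2
    have hp2 : p = 2 := CharP.eq F₀ ‹_› ‹_›
    obtain ⟨ψ⟩ := nonempty_Sp4_two h2
    have hinj : Function.Injective (pr (m := 2) (F := F₀)) := (injective_iff_map_eq_one _).mpr fun z hz => by
      rw [pr_eq_one, mem_center_sp_iff (show 1 ≤ 2 by norm_num)] at hz
      refine Subtype.ext ?_
      rcases hz with e | e
      · exact e
      · refine e.trans ?_
        ext a b
        simp [CharTwo.neg_eq]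
    let e : Equiv.Perm (Fin 6) ≃* Cfsg.PSp 2 F₀ := ψ.symm.trans (MulEquiv.ofBijective pr ⟨hinj, pr_surjective⟩)
    have hM : Nat.card (N.map e.symm.toMonoidHom) = Nat.card N := Subgroup.card_map_of_injective e.symm.injective
    haveI : (N.map e.symm.toMonoidHom).Normal := hN.map _ e.symm.surjective
    have hnt : Nontrivial (N.map e.symm.toMonoidHom) := by
      rw [Subgroup.nontrivial_iff_ne_bot, Ne, Subgroup.map_eq_bot_iff_of_injective _ e.symm.injective]
      exact hne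
    rw [← hM]
    refine dvd_trans ?_ (Subgroup.card_dvd_of_le (Equiv.Perm.alternatingGroup_le_of_normal
      (by rw [Nat.card_eq_fintype_card, Fintype.card_fin]; norm_num) hnt))
    have h720 : ℓ ∣ 2 * Nat.card (alternatingGroup (Fin 6)) := by
      rw [Nat.card_eq_fintype_card, two_mul_card_alternatingGroup, ← Nat.card_eq_fintype_card]
      exact (Nat.card_congr e.toEquiv).symm ▸ hd
    exact (hℓ.dvd_mul.mp h720).resolve_left fun h => (hp2 ▸ hℓp) ((Nat.prime_dvd_prime_iff_eq hℓ Nat.prime_two).mp h)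

include p in
/-- Cores of centralizers in almost simple groups with symplectic socle. -/
theorem psp_balance (hm : 2 ≤ m) (hs : m = 2 → 3 ≤ Fintype.card F) (A : Subgroup (MulAut PSpm))
    (hinn : ∀ k, MulAut.conj k ∈ A) {ℓ : ℕ} [Fact ℓ.Prime] (hℓp : ℓ ≠ p) (x : MulAut PSpm)
    (hord : orderOf x = ℓ) (hnot : ¬ Cfsg.IsInnerDiagonalAutPSp x) :
    Cfsg.pPrimeCore ℓ ↥(A ⊓ Subgroup.centralizer {x}) ≠ ⊥ ↔
      (Cfsg.IsFieldAutClassPSp x ∧
        Nat.Coprime ℓ (Nat.card ↥(MonoidHom.eqLocus x.toMonoidHom (MonoidHom.id PSpm)))) := by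
  classical
  have hm1 : 1 ≤ m := by omega
  have hℓ : ℓ.Prime := Fact.out
  obtain ⟨g, σ, hx⟩ := decomposition_of_order p hm hℓ hℓp hord
  have hσ1 : σ ≠ 1 := fun e => hnot (by
    subst e
    rw [map_one, mul_one] at hx
    refine ⟨g.1, g.2, ?_⟩
    have h := isInduced_dia_fld g (1 : F ≃+* F)
    rw [map_one, mul_one, ← hx] at h
    exact h)
  have hpow := pow_orderOf_eq_one x
  rw [hord, hx, dia_mul_fld_pow, ← eq_inv_iff_mul_eq_one, ← map_inv] at hpow
  have hσℓ : σ ^ ℓ = 1 := by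
    have := SympAut.eq_one_of_fld_eq_dia p hm1 (g := (prodG σ g ℓ)⁻¹) (σ := σ ^ ℓ) (by
      rw [map_inv, hpow]; simp)
    exact this
  have hoσ : orderOf σ = ℓ := orderOf_eq_prime hσℓ hσ1
  have hφcls : Cfsg.IsFieldAutClassPSp (fld σ : MulAut PSpm) := ⟨1, σ, hσ1, by
    rw [one_mul, inv_one, mul_one]
    exact fun s s' e => congrArg pr (Subtype.ext e.symm)⟩
  obtain ⟨h, -, hh⟩ := (order_iff_conj p hm (δ := dia g) hφcls hℓ
    (by rw [orderOf_injective fld (fld_injective p hm1), hoσ]) (inndiag_eq (F := F) (m := m) ▸ ⟨g, rfl⟩)).mp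
    (by rw [← hx, hord])
  rw [← hx] at hh
  have hxcls : Cfsg.IsFieldAutClassPSp x := by
    obtain ⟨a, τ, hτ, hψ⟩ := hφcls
    refine ⟨a * h⁻¹, τ, hτ, ?_⟩
    rw [hh]
    rwa [show a * h⁻¹ * (h * fld σ * h⁻¹) * (a * h⁻¹)⁻¹ = a * fld σ * a⁻¹ by group]
  obtain ⟨K, hK, hj, hcard⟩ := CoreCriterion.exists_fixed_subfield (F := F) hoσ
  haveI : CharP K p := (K.subtype.charP_iff K.subtype.injective p).mpr inferInstance
  have hprops := CoreCriterion.props_conj h (props_fld (m := m) hm (normal_card p hm hℓ hℓp) hoσ hcard hj p)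
  rw [← hh] at hprops
  rw [CoreCriterion.core_criterion hinn hord (psp_hZ p hm1) hprops, and_iff_right hxcls]

end Cfsg.Agent.Lib.Classical.AutPSp
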