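import Cfsg.Agent.Lib.Classical.AutPSp.FieldClass
import Cfsg.Agent.Lib.Classical.SocleCriterion
import Cfsg.Agent.Lib.Classical.SympSimple
import Cfsg.Agent.Lib.Geometry.SpFourAut

/-!
Automorphisms of `PSp`, part 5: fixed points of field automorphisms and the cores of their centralizers.
-/

set_option autoImplicit false

namespace Cfsg.Agent.Lib.Classical.AutPSp

open Matrix
open Cfsg.Agent.Lib.Geometry Cfsg.Agent.Lib.Classical

variable {F : Type*} [Field F] {m : ℕ}

set_option quotPrecheck false in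
local notation "Spm" => Subtype (fun A => A ∈ Matrix.symplecticGroup (Fin m) F)
set_option quotPrecheck false in
local notation "Vm" => (Fin m ⊕ Fin m → F)
set_option quotPrecheck false in
local notation "Mat" => Matrix (Fin m ⊕ Fin m) (Fin m ⊕ Fin m) F
set_option quotPrecheck false in
local notation "GLm" => GL (Fin m ⊕ Fin m) F
set_option quotPrecheck false in
local notation "PSpm" => Cfsg.PSp m F
set_option quotPrecheck false in
local notation "ω" => Cfsg.sympForm m F

variable {F₀ : Type*} [Field F₀] (j : F₀ →+* F)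

theorem map_gsp (k : Cfsg.GSp m F₀) : Units.map (RingHom.toMonoidHom j.mapMatrix) k.1 ∈ Cfsg.GSp m F := by
  obtain ⟨μ, hμ⟩ := gsp_mult k.2
  refine ⟨Units.map (j : F₀ →* F) μ, fun u v => ?_⟩
  have hform : ((sympBilin m F).compl₁₂ (Matrix.toLin' (((k.1 : GL (Fin m ⊕ Fin m) F₀) : Matrix _ _ F₀).map j))
      (Matrix.toLin' (((k.1 : GL (Fin m ⊕ Fin m) F₀) : Matrix _ _ F₀).map j))) = (j (μ : F₀)) • sympBilin m F := by
    refine LinearMap.ext_basis (Pi.basisFun F _) (Pi.basisFun F _) fun i i' => ?_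
    rw [Pi.basisFun_apply, Pi.basisFun_apply, LinearMap.compl₁₂_apply, LinearMap.smul_apply,
      LinearMap.smul_apply, sympBilin_apply, sympBilin_apply, Matrix.toLin'_apply, Matrix.toLin'_apply, smul_eq_mul]
    have h := congrArg j (hμ (Pi.single i 1) (Pi.single i' 1))
    simpa [sympForm_eq_sum, Matrix.mulVec_single_one, Pi.single_apply, apply_ite j] using h
  have := LinearMap.congr_fun₂ hform u v
  rw [LinearMap.compl₁₂_apply, LinearMap.smul_apply, LinearMap.smul_apply, sympBilin_apply, sympBilin_apply,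
    Matrix.toLin'_apply, Matrix.toLin'_apply] at this
  exact this

/-- Conformal symplectic matrices over a subfield. -/
def jG : Cfsg.GSp m F₀ →* Cfsg.GSp m F :=
  MonoidHom.mk' (fun k => ⟨_, map_gsp j k⟩) fun a b => Subtype.ext (map_mul _ _ _)

variable [Fintype F] {p : ℕ}

theorem exists_jG_mul_scG (hm1 : 1 ≤ m) {σ : F ≃+* F} {r : ℕ} (hr : r.Prime) (hσr : σ ^ r = 1) (hσ : σ ≠ 1)
    (hj : ∀ a, σ a = a ↔ ∃ b, j b = a) :
    ∀ g : Cfsg.GSp m F, (∃ c, g⁻¹ * galG σ g = scG c) → ∃ k u, g = jG j k * scG u := by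
  rintro g ⟨c, hc⟩
  have hgc : galG σ g = g * scG c := by rw [← hc, mul_inv_cancel_left]
  have hscmul : ∀ u v : Fˣ, (scG (u * v) : Cfsg.GSp m F) = scG u * scG v := fun u v =>
    Subtype.ext (map_mul _ _ _)
  have hiter : ∀ k, ∃ v : Fˣ, (v : F) = AutPSL.galNorm σ k c ∧
      galG (σ ^ k) g = g * scG v := by
    intro k
    induction k with
    | zero =>
      refine ⟨1, rfl, ?_⟩
      rw [show (scG (1 : Fˣ) : Cfsg.GSp m F) = 1 from Subtype.ext (map_one _), mul_one, pow_zero]
      exact Subtype.ext (Units.ext (Matrix.ext fun a b => rfl))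
    | succ k ih =>
      obtain ⟨v, hv, e⟩ := ih
      refine ⟨c * Units.map (σ : F →* F) v, by rw [Units.val_mul, AutPSL.galNorm, Units.coe_map, hv]; rfl, ?_⟩
      rw [show galG (σ ^ (k + 1)) g = galG σ (galG (σ ^ k) g) from by
        refine Subtype.ext (Units.ext (Matrix.ext fun a b => ?_))
        rw [pow_succ']; rfl, e, map_mul, hgc, galG_scG, mul_assoc, hscmul]
  obtain ⟨v, hv, e⟩ := hiter r
  rw [hσr, show galG (1 : F ≃+* F) g = g from Subtype.ext (Units.ext (Matrix.ext fun a b => rfl)), eq_comm,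
    mul_eq_left] at e
  have hv1 : (v : F) = 1 := by
    have h := congrArg (fun k : Cfsg.GSp m F => ((k : GLm) : Mat) (Sum.inl ⟨0, hm1⟩) (Sum.inl ⟨0, hm1⟩)) e
    simpa [scG, Matrix.scalar_apply] using h
  obtain ⟨b, hb0, hb⟩ := AutPSL.exists_twist_scalar hr hσr hσ (a := (c : F)) (by rw [← hv, hv1])
  set h := g * scG (Units.mk0 b hb0) with hhdef
  have hh : ∀ s t, σ (((h : GLm) : Mat) s t) = ((h : GLm) : Mat) s t := by
    intro s t
    have : galG σ h = h := by
      rw [hhdef, map_mul, hgc, galG_scG, mul_assoc, ← hscmul]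
      congr 2
      exact Units.ext hb
    exact congrArg (fun x : Cfsg.GSp m F => ((x : GLm) : Mat) s t) this
  choose H hH using fun s t => (hj _).mp (hh s t)
  have hHmat : (Matrix.of H).map j = ((h : GLm) : Mat) := Matrix.ext hH
  have hdet : (Matrix.of H).det ≠ 0 := by
    intro h0
    have h1 : ((h : GLm) : Mat).det = j (Matrix.of H).det := by
      rw [RingHom.map_det, RingHom.mapMatrix_apply, hHmat]
    rw [h0, map_zero] at h1
    exact (GeneralLinearGroup.det (h : GLm)).ne_zero h1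
  have hvec : ∀ (i : Fin m ⊕ Fin m), (fun l => j (((Matrix.of H) *ᵥ Pi.single i 1) l)) = ((h : GLm) : Mat) *ᵥ Pi.single i 1 :=
    fun i => funext fun l => by simp [Matrix.mulVec_single_one, hH]
  set i₀ : Fin m := ⟨0, hm1⟩
  have hjform : ∀ u v : Fin m ⊕ Fin m → F₀, j (Cfsg.sympForm m F₀ u v) = ω (fun l => j (u l)) (fun l => j (v l)) :=
    fun u v => by simp [sympForm_eq_sum]
  set μ₀ := Cfsg.sympForm m F₀ ((Matrix.of H) *ᵥ Fv i₀) ((Matrix.of H) *ᵥ E i₀)
  have hμj : j μ₀ = multHom hm1 h := by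
    rw [hjform, show (fun l => j (((Matrix.of H) *ᵥ (Fv i₀ : Fin m ⊕ Fin m → F₀)) l)) = _ from hvec _,
      show (fun l => j (((Matrix.of H) *ᵥ (E i₀ : Fin m ⊕ Fin m → F₀)) l)) = _ from hvec _, multHom_spec hm1,
      show (Pi.single (Sum.inl i₀) (1 : F) : Vm) = E i₀ from rfl, form_E]
    simp
  have hμ0 : μ₀ ≠ 0 := fun e => by rw [e, map_zero] at hμj; exact (multHom hm1 h).ne_zero hμj.symm
  let k : Cfsg.GSp m F₀ := ⟨GeneralLinearGroup.mkOfDetNeZero (Matrix.of H) hdet, Units.mk0 μ₀ hμ0, by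
    intro u v
    have hform : (sympBilin m F₀).compl₁₂ (Matrix.toLin' (Matrix.of H)) (Matrix.toLin' (Matrix.of H)) =
        μ₀ • sympBilin m F₀ := by
      refine LinearMap.ext_basis (Pi.basisFun F₀ _) (Pi.basisFun F₀ _) fun i i' => j.injective ?_
      rw [Pi.basisFun_apply, Pi.basisFun_apply, LinearMap.compl₁₂_apply, LinearMap.smul_apply,
        LinearMap.smul_apply, sympBilin_apply, sympBilin_apply, Matrix.toLin'_apply, Matrix.toLin'_apply,
        smul_eq_mul, map_mul, hμj, hjform, hjform, hvec, hvec, multHom_spec hm1]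
      congr 2 <;> funext l <;> simp [Pi.single_apply, apply_ite j]
    have := LinearMap.congr_fun₂ hform u v
    rw [LinearMap.compl₁₂_apply, LinearMap.smul_apply, LinearMap.smul_apply, sympBilin_apply, sympBilin_apply,
      Matrix.toLin'_apply, Matrix.toLin'_apply] at this
    exact this⟩
  refine ⟨k, (Units.mk0 b hb0)⁻¹, ?_⟩
  rw [show jG j k = h from Subtype.ext (Units.ext hHmat), hhdef, mul_assoc, ← hscmul, mul_inv_cancel,
    show (scG (1 : Fˣ) : Cfsg.GSp m F) = 1 from Subtype.ext (map_one _), mul_one]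

end Cfsg.Agent.Lib.Classical.AutPSp
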