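import Cfsg.Agent.Lib.Classical.AutPSp.Sylow

/-!
Automorphisms of `PSp_{2m}(q)`, part 3: every automorphism is inner-diagonal times field.
-/

set_option autoImplicit false

namespace Cfsg.Agent.Lib.Classical.AutPSp

open Matrix
open Cfsg.Agent.Lib.Geometry Cfsg.Agent.Lib.Classical

variable {F : Type*} [Field F] {m : ℕ}

set_option quotPrecheck false in
local notation "Spm" => Subtype (fun A => A ∈ Matrix.symplecticGroup (Fin m) F)
set_option quotPrecheck false in
local notation "Vm" => (Fin m ⊕ Fin m → F)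
set_option quotPrecheck false in
local notation "Mat" => Matrix (Fin m ⊕ Fin m) (Fin m ⊕ Fin m) F
set_option quotPrecheck false in
local notation "GLm" => GL (Fin m ⊕ Fin m) F
set_option quotPrecheck false in
local notation "PSpm" => Cfsg.PSp m F
set_option quotPrecheck false in
local notation "ω" => Cfsg.sympForm m F

/-- The first half of the standard basis. -/
def E (i : Fin m) : Vm := Pi.single (Sum.inl i) 1

/-- The second half of the standard basis. -/
def Fv (i : Fin m) : Vm := Pi.single (Sum.inr i) 1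

theorem form_E (x : Vm) (i : Fin m) : ω x (E i) = x (Sum.inr i) := by
  rw [sympForm_eq_sum, Finset.sum_eq_single i]
  · simp [E]
  · intro k _ hk; simp [E, hk]
  · simp

theorem form_Fv (x : Vm) (i : Fin m) : ω x (Fv i) = - x (Sum.inl i) := by
  rw [sympForm_eq_sum, Finset.sum_eq_single i]
  · simp [Fv]
  · intro k _ hk; simp [Fv, hk]
  · simp

theorem E_ne_zero (i : Fin m) : (E i : Vm) ≠ 0 := Pi.single_ne_zero_iff.2 one_ne_zero

theorem Fv_ne_zero (i : Fin m) : (Fv i : Vm) ≠ 0 := Pi.single_ne_zero_iff.2 one_ne_zero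

theorem eq_of_form {z v : Vm} (h1 : ∀ i, ω z (E i) = ω v (E i)) (h2 : ∀ i, ω z (Fv i) = ω v (Fv i)) :
    z = v := funext fun k => by
  rcases k with i | i
  · simpa [form_Fv] using h2 i
  · simpa [form_E] using h1 i

/-- `β` carries the transvection group of `v` onto that of `w`. -/
def Img (β : MulAut PSpm) (v w : Vm) : Prop :=
  w ≠ 0 ∧ ∃ φ : F → F, Function.Bijective φ ∧ ∀ c, β (tau v c) = tau w (φ c)

variable [Fintype F] (p : ℕ) [Fact p.Prime] [CharP F p]

omit [Fintype F] in
include p in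
theorem img_phi (hm : 1 ≤ m) {β : MulAut PSpm} {v w : Vm} (hw : w ≠ 0) {φ : F → F}
    (h : ∀ c, β (tau v c) = tau w (φ c)) : φ 0 = 0 ∧ ∀ c d, φ (c + d) = φ c + φ d := by
  refine ⟨tau_injective p hm hw ?_, fun c d => tau_injective p hm hw ?_⟩
  · rw [← h, tau_zero, tau_zero, map_one]
  · rw [← tau_add, ← h, ← h, ← h, ← tau_add, map_mul]

omit [Fintype F] in
include p in
theorem img_unique (hm : 1 ≤ m) {β : MulAut PSpm} {v w w' : Vm} (h : Img β v w) (h' : Img β v w') :
    ∃ a : F, a ≠ 0 ∧ w' = a • w := by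
  obtain ⟨hw, φ, hφb, hφ⟩ := h
  obtain ⟨-, φ', -, hφ'⟩ := h'
  have h0 := (img_phi p hm hw hφ).1
  obtain ⟨a, ha, e, -⟩ := tau_eq_imp p hm hw (c := φ 1)
    (fun e => one_ne_zero (hφb.1 (e.trans h0.symm))) ((hφ 1).symm.trans (hφ' 1))
  exact ⟨a, ha, e⟩

omit [Fintype F] in
theorem img_smul {β : MulAut PSpm} {v w : Vm} (h : Img β v w) {a : F} (ha : a ≠ 0) :
    Img β v (a • w) := by
  obtain ⟨hw, φ, hφb, hφ⟩ := h
  refine ⟨smul_ne_zero ha hw, fun c => φ c / (a * a), ⟨fun c d e => hφb.1 ?_, fun c => ?_⟩, fun c => ?_⟩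
  · simpa [div_left_inj' (mul_ne_zero ha ha)] using e
  · obtain ⟨k, hk⟩ := hφb.2 (c * (a * a))
    exact ⟨k, by show φ k / (a * a) = c; rw [hk, mul_div_cancel_right₀ _ (mul_ne_zero ha ha)]⟩
  · rw [hφ, tau_smul]
    congr 1
    field_simp

omit [Fintype F] in
include p in
theorem img_inj (hm : 1 ≤ m) {β : MulAut PSpm} {v v' w : Vm} (hv : v ≠ 0) (h : Img β v w)
    (h' : Img β v' w) : ∃ a : F, a ≠ 0 ∧ v' = a • v := by
  obtain ⟨-, φ, hφb, hφ⟩ := h
  obtain ⟨hw, φ', hφ'b, hφ'⟩ := h'
  obtain ⟨c, hc⟩ := hφb.2 (φ' 1)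
  have hc0 : c ≠ 0 := fun e => by
    rw [e, (img_phi p hm hw hφ).1] at hc
    exact one_ne_zero (hφ'b.1 (hc.symm.trans (img_phi p hm hw hφ').1.symm))
  have heq : tau v c = tau v' 1 := β.injective (by rw [hφ, hφ', hc])
  obtain ⟨a, ha, e, -⟩ := tau_eq_imp p hm hv hc0 heq
  exact ⟨a, ha, e⟩

omit [Fintype F] in
include p in
theorem img_orth (hm : 1 ≤ m) {β : MulAut PSpm} {v w v' w' : Vm} (hv : v ≠ 0) (hv' : v' ≠ 0)
    (h : Img β v w) (h' : Img β v' w') : ω v v' = 0 ↔ ω w w' = 0 := by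
  obtain ⟨hw, φ, hφb, hφ⟩ := h
  obtain ⟨hw', φ', hφ'b, hφ'⟩ := h'
  have hn : φ 1 ≠ 0 := fun e => one_ne_zero (hφb.1 (e.trans (img_phi p hm hw hφ).1.symm))
  have hn' : φ' 1 ≠ 0 := fun e => one_ne_zero (hφ'b.1 (e.trans (img_phi p hm hw' hφ').1.symm))
  rw [← tau_commute_iff p hm hv hv' one_ne_zero one_ne_zero, ← tau_commute_iff p hm hw hw' hn hn',
    ← hφ, ← hφ', ← map_mul, ← map_mul, β.injective.eq_iff]

omit [Fintype F] [Fact p.Prime] [CharP F p] in
theorem img_conj {β : MulAut PSpm} {v w u z : Vm} {c d : F} (h : β (tau v c) = tau w d)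
    (hu : Img β u z) : Img β ((spT v c).1 *ᵥ u) ((spT w d).1 *ᵥ z) := by
  obtain ⟨hz, φ, hφb, hφ⟩ := hu
  refine ⟨sp_mulVec_ne_zero _ hz, φ, hφb, fun e => ?_⟩
  rw [← tau_conj, ← tau_conj, map_mul, map_mul, map_inv, show pr (spT v c) = tau v c from rfl,
    show pr (spT w d) = tau w d from rfl, h, hφ]

omit [Fintype F] [Fact p.Prime] [CharP F p] in
theorem img_dia {β : MulAut PSpm} {v w : Vm} (h : Img β v w) (g : Cfsg.GSp m F) {μ : Fˣ}
    (hμ : ∀ a b, ω (((g : GLm) : Mat) *ᵥ a) (((g : GLm) : Mat) *ᵥ b) = (μ : F) * ω a b) :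
    Img (dia g * β) v (((g : GLm) : Mat) *ᵥ w) := by
  obtain ⟨hw, φ, hφb, hφ⟩ := h
  refine ⟨fun e => hw ?_, fun c => φ c / μ, ?_, fun c => ?_⟩
  · have := congrArg ((((g : GLm)⁻¹ : GLm) : Mat) *ᵥ ·) e
    simpa [Matrix.mulVec_mulVec, ← Units.val_mul] using this
  · exact ⟨fun a b e => hφb.1 (by simpa [div_left_inj' μ.ne_zero] using e), fun c => by
      obtain ⟨k, hk⟩ := hφb.2 (c * μ)
      exact ⟨k, by show φ k / μ = c; rw [hk, mul_div_cancel_right₀ _ μ.ne_zero]⟩⟩
  · rw [MulAut.mul_apply, hφ, dia_tau g hμ]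

omit [Fintype F] [Fact p.Prime] [CharP F p] in
theorem img_fld {β : MulAut PSpm} {v w : Vm} (h : Img β v w) (σ : F ≃+* F) :
    Img (fld σ * β) v (fun i => σ (w i)) := by
  obtain ⟨hw, φ, hφb, hφ⟩ := h
  refine ⟨fun e => hw (funext fun i => σ.injective ((congrFun e i).trans (map_zero σ).symm)), fun c => σ (φ c),
    σ.bijective.comp hφb, fun c => ?_⟩
  rw [MulAut.mul_apply, hφ, fld_tau]

/-- The data after the choice of a symplectic frame. -/
def Framed (β : MulAut PSpm) : Prop := ∀ i, Img β (E i) (E i) ∧ Img β (Fv i) (Fv i)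

include p in
theorem exists_framed_of_img (hm : 1 ≤ m) (β : MulAut PSpm) (hex : ∀ v : Vm, v ≠ 0 → ∃ w, Img β v w) :
    ∃ g : Cfsg.GSp m F, Framed (dia g * β) := by
  classical
  choose a ha using fun i => hex (E i) (E_ne_zero i)
  choose b hb using fun i => hex (Fv i) (Fv_ne_zero i)
  have hor := fun {v w v' w' : Vm} (hv : v ≠ 0) (hv' : v' ≠ 0) (h : Img β v w) (h' : Img β v' w') =>
    img_orth p hm hv hv' h h'
  have haa : ∀ i j, ω (a i) (a j) = 0 := fun i j =>
    (hor (E_ne_zero i) (E_ne_zero j) (ha i) (ha j)).mp (by rw [form_E]; simp [E])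
  have hbb : ∀ i j, ω (b i) (b j) = 0 := fun i j =>
    (hor (Fv_ne_zero i) (Fv_ne_zero j) (hb i) (hb j)).mp (by rw [form_Fv]; simp [Fv])
  have hba : ∀ i j, ω (b i) (a j) = 0 ↔ i ≠ j := fun i j => by
    rw [← hor (Fv_ne_zero i) (E_ne_zero j) (hb i) (ha j), form_E]
    simp [Fv, Pi.single_apply, eq_comm]
  set k := fun i => (ω (b i) (a i))⁻¹ with hk
  have hk0 : ∀ i, k i ≠ 0 := fun i => inv_ne_zero fun e => (hba i i).mp e rfl
  let L : Vm →ₗ[F] Vm :=
    { toFun := fun x => ∑ i, (x (Sum.inl i) • a i + (x (Sum.inr i) * k i) • b i)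
      map_add' := fun x y => by
        rw [← Finset.sum_add_distrib]
        exact Finset.sum_congr rfl fun i _ => by simp only [Pi.add_apply, add_smul, add_mul]; abel
      map_smul' := fun c x => by
        rw [RingHom.id_apply, Finset.smul_sum]
        exact Finset.sum_congr rfl fun i _ => by
          simp only [Pi.smul_apply, smul_eq_mul, smul_add, smul_smul, mul_assoc] }
  have hLE : ∀ i, L (E i) = a i := fun i => by
    show ∑ j, ((E i : Vm) (Sum.inl j) • a j + ((E i : Vm) (Sum.inr j) * k j) • b j) = _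
    rw [Finset.sum_eq_single i] <;> simp +contextual [E]
  have hLF : ∀ i, L (Fv i) = k i • b i := fun i => by
    show ∑ j, ((Fv i : Vm) (Sum.inl j) • a j + ((Fv i : Vm) (Sum.inr j) * k j) • b j) = _
    rw [Finset.sum_eq_single i] <;> simp +contextual [Fv]
  have hform : (sympBilin m F).compl₁₂ L L = sympBilin m F := by
    refine LinearMap.ext_basis (Pi.basisFun F _) (Pi.basisFun F _) fun s t => ?_
    rw [Pi.basisFun_apply, Pi.basisFun_apply, LinearMap.compl₁₂_apply, sympBilin_apply, sympBilin_apply]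
    rcases s with i | i <;> rcases t with j | j
    · rw [show (Pi.single (Sum.inl i) (1 : F) : Vm) = E i from rfl, show (Pi.single (Sum.inl j) (1 : F) : Vm) = E j from rfl,
        hLE, hLE, haa, form_E]; simp [E]
    · rw [show (Pi.single (Sum.inl i) (1 : F) : Vm) = E i from rfl, show (Pi.single (Sum.inr j) (1 : F) : Vm) = Fv j from rfl,
        hLE, hLF, sympForm_smul_right, sympForm_swap, form_Fv]
      by_cases h : j = i
      · subst h
        simp only [hk, E, Pi.single_eq_same, mul_neg]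
        rw [inv_mul_cancel₀ fun e => (hba j j).mp e rfl]
      · rw [(hba j i).mpr h]; simp [E, h]
    · rw [show (Pi.single (Sum.inr i) (1 : F) : Vm) = Fv i from rfl, show (Pi.single (Sum.inl j) (1 : F) : Vm) = E j from rfl,
        hLF, hLE, sympForm_smul_left, form_E]
      by_cases h : i = j
      · subst h
        simp only [hk, Fv, Pi.single_eq_same]
        rw [inv_mul_cancel₀ fun e => (hba i i).mp e rfl]
      · rw [(hba i j).mpr h]; simp [Fv, h, Ne.symm h]
    · rw [show (Pi.single (Sum.inr i) (1 : F) : Vm) = Fv i from rfl, show (Pi.single (Sum.inr j) (1 : F) : Vm) = Fv j from rfl,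
        hLF, hLF, sympForm_smul_left, sympForm_smul_right, hbb, form_Fv]; simp [Fv]
  have hmem : LinearMap.toMatrix' L ∈ Matrix.symplecticGroup (Fin m) F := by
    refine mem_symplecticGroup_iff_form.mpr fun u v => ?_
    rw [← Matrix.toLin'_apply, ← Matrix.toLin'_apply, Matrix.toLin'_toMatrix', ← sympBilin_apply, ← sympBilin_apply]
    exact LinearMap.congr_fun₂ hform u v
  let g₀ : GLm := spToGL m F ⟨_, hmem⟩
  have hg : g₀ ∈ Cfsg.GSp m F := ⟨1, fun u v => by
    rw [Units.val_one, one_mul]; exact sp_form ⟨_, hmem⟩ u v⟩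
  refine ⟨⟨g₀, hg⟩⁻¹, fun i => ?_⟩
  have hμ : ∀ u v, ω ((((g₀⁻¹ : GLm)) : Mat) *ᵥ u) ((((g₀⁻¹ : GLm)) : Mat) *ᵥ v) = ((1 : Fˣ) : F) * ω u v := by
    intro u v
    rw [Units.val_one, one_mul]
    have := sp_form (⟨_, hmem⟩ : Spm)⁻¹ u v
    rwa [show ((g₀⁻¹ : GLm) : Mat) = ((⟨_, hmem⟩ : Spm)⁻¹).1 by rw [← spToGL_coe, map_inv]]
  have hinv : ∀ x, ((g₀⁻¹ : GLm) : Mat) *ᵥ (L x) = x := by
    intro x
    rw [show L x = (g₀ : Mat) *ᵥ x by rw [spToGL_coe, ← Matrix.toLin'_apply, Matrix.toLin'_toMatrix'],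
      Matrix.mulVec_mulVec, ← Units.val_mul, inv_mul_cancel, Units.val_one, Matrix.one_mulVec]
  constructor
  · have := img_dia (ha i) ⟨g₀, hg⟩⁻¹ hμ
    rwa [show (((⟨g₀, hg⟩⁻¹ : Cfsg.GSp m F) : GLm) : Mat) *ᵥ a i = E i by rw [← hLE]; exact hinv _] at this
  · have := img_dia (img_smul (hb i) (hk0 i)) ⟨g₀, hg⟩⁻¹ hμ
    rwa [show (((⟨g₀, hg⟩⁻¹ : Cfsg.GSp m F) : GLm) : Mat) *ᵥ (k i • b i) = Fv i by rw [← hLF]; exact hinv _] at this

include p in
theorem decomposition_of_img (hm : 2 ≤ m) (β : MulAut PSpm) (hβ : ∀ v : Vm, v ≠ 0 → ∃ w, Img β v w) :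
    ∃ (g : Cfsg.GSp m F) (σ : F ≃+* F), β = dia g * fld σ := by
  classical
  have hm1 : 1 ≤ m := by omega
  have hdia : ∀ (α : MulAut PSpm) (g : Cfsg.GSp m F), (∀ v : Vm, v ≠ 0 → ∃ w, Img α v w) →
      ∀ v : Vm, v ≠ 0 → ∃ w, Img (dia g * α) v w := fun α g hα v hv => by
    obtain ⟨μ, hμ⟩ := g.2
    obtain ⟨w, hw⟩ := hα v hv
    exact ⟨_, img_dia hw g hμ⟩
  -- it suffices to normalise
  suffices key : ∃ (g : Cfsg.GSp m F) (σ : F ≃+* F), fld σ * (dia g * β) = 1 by
    obtain ⟨g, σ, h⟩ := key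
    refine ⟨g⁻¹, σ⁻¹, ?_⟩
    rw [map_inv, map_inv]
    have h3 : dia g * β = (fld σ)⁻¹ := eq_inv_of_mul_eq_one_right h
    rw [← h3, inv_mul_cancel_left]
  obtain ⟨g₁, hfr⟩ := exists_framed_of_img p hm1 β hβ
  set β₁ := dia g₁ * β with hβ₁
  have hex₁ := hdia β g₁ hβ
  rw [← hβ₁] at hex₁
  let o : Fin m := ⟨0, by omega⟩
  -- shapes of images of points on two lines
  have shapeEE : ∀ (α : MulAut PSpm), Framed α → (∀ v : Vm, v ≠ 0 → ∃ w, Img α v w) → ∀ i, i ≠ o → ∀ x : F,
      ∃ t : F, Img α (E o + x • E i) (E o + t • E i) := by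
    intro α hα hαx i hi x
    have hv : (E o + x • E i : Vm) ≠ 0 := fun e => by
      have := congrFun e (Sum.inl o); simp [E, hi.symm] at this
    obtain ⟨z, hz⟩ := hαx _ hv
    have hr : ∀ k, z (Sum.inr k) = 0 := fun k => by
      rw [← form_E z k]
      exact (img_orth p hm1 hv (E_ne_zero k) hz (hα k).1).mp (by rw [form_E]; simp [E])
    have hl : ∀ k, k ≠ o → k ≠ i → z (Sum.inl k) = 0 := fun k h1 h3 => by
      have := (img_orth p hm1 hv (Fv_ne_zero k) hz (hα k).2).mp (by rw [form_Fv]; simp [E, h1, h3])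
      rwa [form_Fv, neg_eq_zero] at this
    have ho : z (Sum.inl o) ≠ 0 := fun e => by
      have hz' : z = z (Sum.inl i) • E i := funext fun k => by
        rcases k with k | k
        · by_cases h3 : k = i
          · subst h3; simp [E]
          · by_cases h4 : k = o
            · subst h4; simp [E, e, h3]
            · simp [E, hl k h4 h3, h3]
        · simp [E, hr k]
      have hne : z (Sum.inl i) ≠ 0 := fun e2 => hz.1 (by rw [hz', e2, zero_smul])
      obtain ⟨a, -, ha⟩ := img_inj p hm1 (E_ne_zero i) (hα i).1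
        (v' := E o + x • E i) (by
          have := img_smul hz (inv_ne_zero hne)
          rwa [hz', Pi.smul_apply, smul_eq_mul, show (E i : Vm) (Sum.inl i) = 1 by simp [E], mul_one,
            inv_smul_smul₀ hne] at this)
      have := congrFun ha (Sum.inl o); simp [E, hi.symm] at this
    refine ⟨(z (Sum.inl o))⁻¹ * z (Sum.inl i), ?_⟩
    convert img_smul hz (inv_ne_zero ho) using 1
    funext k
    rcases k with k | k
    · by_cases h3 : k = i
      · subst h3; simp [E, hi]
      · by_cases h4 : k = o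
        · subst h4; simp [E, h3, ho]
        · simp [E, hl k h4 h3, h3, h4]
    · simp [E, hr k]
  -- normalise the diagonal
  have hlam : ∀ i, ∃ t : Fˣ, i ≠ o → Img β₁ (E o + E i) (E o + (t : F) • E i) := by
    intro i
    by_cases hi : i = o
    · exact ⟨1, fun h => absurd hi h⟩
    obtain ⟨t, ht⟩ := shapeEE β₁ hfr hex₁ i hi 1
    rw [one_smul] at ht
    refine ⟨Units.mk0 t fun e => ?_, fun _ => ht⟩
    rw [e, zero_smul, add_zero] at ht
    obtain ⟨a, -, ha⟩ := img_inj p hm1 (E_ne_zero o) (hfr o).1 ht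
    have := congrFun ha (Sum.inl i); simp [E, hi, Ne.symm hi] at this
  choose t ht using hlam
  obtain ⟨-, ψ, hψb, hψ⟩ := (hfr o).1
  set μ := Units.mk0 (ψ 1) (fun e => one_ne_zero (hψb.1 (e.trans (img_phi p hm1 (E_ne_zero o) hψ).1.symm)))
  let d : Fin m ⊕ Fin m → Fˣ := Sum.elim (fun i => if i = o then 1 else (t i)⁻¹)
    (fun i => if i = o then μ else μ * t i)
  let D : GLm := ⟨Matrix.diagonal fun k => (d k : F), Matrix.diagonal fun k => ((d k)⁻¹ : Fˣ),
    by rw [Matrix.diagonal_mul_diagonal, ← Matrix.diagonal_one]; congr 1; funext k; simp,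
    by rw [Matrix.diagonal_mul_diagonal, ← Matrix.diagonal_one]; congr 1; funext k; simp⟩
  have hDμ : ∀ u v, ω ((D : Mat) *ᵥ u) ((D : Mat) *ᵥ v) = (μ : F) * ω u v := by
    intro u v
    rw [sympForm_eq_sum, sympForm_eq_sum, Finset.mul_sum]
    refine Finset.sum_congr rfl fun i _ => ?_
    simp only [D, Matrix.mulVec_diagonal]
    have hd : (d (Sum.inl i) : F) * d (Sum.inr i) = μ := by
      rw [← Units.val_mul]
      congr 1
      simp only [d, Sum.elim_inl, Sum.elim_inr]
      split_ifs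
      · rw [one_mul]
      · rw [mul_comm μ, inv_mul_cancel_left]
    linear_combination (u (Sum.inr i) * v (Sum.inl i) - u (Sum.inl i) * v (Sum.inr i)) * hd
  let g₂ : Cfsg.GSp m F := ⟨D, μ, hDμ⟩
  set β₂ := dia g₂ * β₁ with hβ₂
  have hex₂ := hdia β₁ g₂ hex₁
  rw [← hβ₂] at hex₂
  have hDE : ∀ i, (D : Mat) *ᵥ E i = (d (Sum.inl i) : F) • E i := fun i => funext fun k => by
    rw [Matrix.mulVec_diagonal]
    by_cases h : k = Sum.inl i
    · subst h; simp [E]
    · simp [E, h]
  have hDF : ∀ i, (D : Mat) *ᵥ Fv i = (d (Sum.inr i) : F) • Fv i := fun i => funext fun k => by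
    rw [Matrix.mulVec_diagonal]
    by_cases h : k = Sum.inr i
    · subst h; simp [Fv]
    · simp [Fv, h]
  have hfr2 : Framed β₂ := fun i => by
    constructor
    · have h := img_smul (img_dia (hfr i).1 g₂ hDμ) (d (Sum.inl i))⁻¹.ne_zero
      rwa [show ((g₂ : GLm) : Mat) = (D : Mat) from rfl, hDE, smul_smul, Units.inv_mul, one_smul] at h
    · have h := img_smul (img_dia (hfr i).2 g₂ hDμ) (d (Sum.inr i))⁻¹.ne_zero
      rwa [show ((g₂ : GLm) : Mat) = (D : Mat) from rfl, hDF, smul_smul, Units.inv_mul, one_smul] at h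
  have hsum2 : ∀ i, i ≠ o → Img β₂ (E o + E i) (E o + E i) := fun i hi => by
    have h := img_dia (ht i hi) g₂ hDμ
    rwa [show ((g₂ : GLm) : Mat) = (D : Mat) from rfl, Matrix.mulVec_add, Matrix.mulVec_smul, hDE, hDE,
      smul_smul, show (d (Sum.inl o) : F) = 1 by simp [d],
      show (t i : F) * (d (Sum.inl i) : F) = 1 by simp [d, hi], one_smul, one_smul] at h
  obtain ⟨hEo, φ, hφb, hφ⟩ := (hfr2 o).1
  have hφ1 : φ 1 = 1 := by
    refine tau_injective p hm1 (E_ne_zero o) ?_
    rw [← hφ, hβ₂, MulAut.mul_apply, hψ, dia_tau g₂ hDμ, show ((g₂ : GLm) : Mat) = (D : Mat) from rfl,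
      hDE, show (d (Sum.inl o) : F) = 1 by simp [d], one_smul, show ψ 1 = (μ : F) from rfl,
      div_self μ.ne_zero]
  obtain ⟨hφ0, hφadd⟩ := img_phi p hm1 (E_ne_zero o) hφ
  -- shapes on the lines through the opposite point
  have shapeFE : ∀ (α : MulAut PSpm), Framed α → (∀ v : Vm, v ≠ 0 → ∃ w, Img α v w) → ∀ i, i ≠ o → ∀ y : F,
      ∃ s : F, Img α (Fv o + y • E i) (Fv o + s • E i) := by
    intro α hα hαx i hi y
    have hv : (Fv o + y • E i : Vm) ≠ 0 := fun e => by
      have := congrFun e (Sum.inr o); simp [E, Fv] at this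
    obtain ⟨z, hz⟩ := hαx _ hv
    have hr : ∀ k, k ≠ o → z (Sum.inr k) = 0 := fun k hk => by
      rw [← form_E z k]
      exact (img_orth p hm1 hv (E_ne_zero k) hz (hα k).1).mp (by rw [form_E]; simp [E, Fv, hk])
    have hl : ∀ k, k ≠ i → z (Sum.inl k) = 0 := fun k h1 => by
      have := (img_orth p hm1 hv (Fv_ne_zero k) hz (hα k).2).mp (by rw [form_Fv]; simp [E, Fv, h1])
      rwa [form_Fv, neg_eq_zero] at this
    have ho : z (Sum.inr o) ≠ 0 := fun e => by
      have hz' : z = z (Sum.inl i) • E i := funext fun k => by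
        rcases k with k | k
        · by_cases h3 : k = i
          · subst h3; simp [E]
          · simp [E, hl k h3, h3]
        · by_cases h4 : k = o
          · subst h4; simp [E, e]
          · simp [E, hr k h4]
      have hne : z (Sum.inl i) ≠ 0 := fun e2 => hz.1 (by rw [hz', e2, zero_smul])
      obtain ⟨a, -, ha⟩ := img_inj p hm1 (E_ne_zero i) (hα i).1
        (v' := Fv o + y • E i) (by
          have := img_smul hz (inv_ne_zero hne)
          rwa [hz', Pi.smul_apply, smul_eq_mul, show (E i : Vm) (Sum.inl i) = 1 by simp [E], mul_one,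
            inv_smul_smul₀ hne] at this)
      have := congrFun ha (Sum.inr o); simp [E, Fv] at this
    refine ⟨(z (Sum.inr o))⁻¹ * z (Sum.inl i), ?_⟩
    convert img_smul hz (inv_ne_zero ho) using 1
    funext k
    rcases k with k | k
    · by_cases h3 : k = i
      · subst h3; simp [E, Fv]
      · simp [E, Fv, hl k h3, h3]
    · by_cases h4 : k = o
      · subst h4; simp [E, Fv, ho]
      · simp [E, Fv, hr k h4, h4]
  have hlin : ∀ i, i ≠ o → ∀ x c : F,
      Img β₂ (E o + x • E i) (E o + φ x • E i) ∧ Img β₂ (Fv o + x • E i) (Fv o + φ x • E i) ∧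
      φ (c * x) = φ c * φ x := by
    intro i hi
    choose θ hθ using shapeEE β₂ hfr2 hex₂ i hi
    choose lam hlam using shapeFE β₂ hfr2 hex₂ i hi
    have hkey : ∀ x c, φ c * θ x = lam (c * x) := by
      intro x c
      obtain ⟨-, φx, -, hφx⟩ := hθ x
      have h1 := img_conj (hφx c) (hfr2 o).2
      have h2 := img_conj (hφ c) (hlam (c * x))
      have p1 : ∀ y : F, ω (Fv o) (E o + y • E i) = 1 := fun y => by
        rw [sympForm_add_right, sympForm_smul_right, form_E, form_E]; simp [Fv, hi]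
      have p2 : ∀ y : F, ω (Fv o + y • E i) (E o) = 1 := fun y => by
        rw [form_E]; simp [E, Fv]
      have e1 : (spT (E o + x • E i) c).1 *ᵥ Fv o = (spT (E o) c).1 *ᵥ (Fv o + (c * x) • E i) := by
        rw [spT_mulVec, spT_mulVec, p1, p2, mul_one, smul_add, smul_smul]
        abel
      rw [e1] at h1
      obtain ⟨a, ha, e⟩ := img_unique p hm1 h1 h2
      rw [spT_mulVec, spT_mulVec, p1, p2, mul_one, mul_one] at e
      have ea := congrFun e (Sum.inr o)
      simp [E, Fv] at ea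
      subst ea
      have eo := congrFun e (Sum.inl o)
      have ei := congrFun e (Sum.inl i)
      simp [E, Fv, hi, hi.symm] at eo ei
      rw [eo]
      exact ei.symm
    have hθ1 : θ 1 = 1 := by
      have h := hθ 1
      rw [one_smul] at h
      obtain ⟨a, -, e⟩ := img_unique p hm1 (hsum2 i hi) h
      have ea := congrFun e (Sum.inl o)
      have ei := congrFun e (Sum.inl i)
      simp [E, hi, hi.symm] at ea ei
      rw [ei, ← ea]
    have hlamφ : ∀ y, lam y = φ y := fun y => by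
      have := hkey 1 y
      rwa [hθ1, mul_one, mul_one, eq_comm] at this
    have hθφ : ∀ x, θ x = φ x := fun x => by
      have := hkey x 1
      rwa [hφ1, one_mul, one_mul, hlamφ] at this
    intro x c
    refine ⟨hθφ x ▸ hθ x, hlamφ x ▸ hlam x, ?_⟩
    rw [← hlamφ, ← hkey, hθφ]
  let i₁ : Fin m := ⟨1, by omega⟩
  have hi₁ : i₁ ≠ o := fun e => by simp [i₁, o, Fin.ext_iff] at e
  let σh : F →+* F :=
    { toFun := φ
      map_one' := hφ1
      map_mul' := fun a b => ((hlin i₁ hi₁ b a).2.2)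
      map_zero' := hφ0
      map_add' := hφadd }
  let σ : F ≃+* F := RingEquiv.ofBijective σh hφb
  refine ⟨g₂ * g₁, σ.symm, ?_⟩
  rw [map_mul, mul_assoc]
  set β₃ := fld σ.symm * (dia g₂ * β₁) with hβ₃
  have hex₃ : ∀ v : Vm, v ≠ 0 → ∃ w, Img β₃ v w := fun v hv => by
    obtain ⟨w, hw⟩ := hex₂ v hv
    exact ⟨_, by rw [hβ₃, ← hβ₂]; exact img_fld hw σ.symm⟩
  have hs : ∀ x, σ.symm (φ x) = x := fun x => σ.symm_apply_apply x
  have hfr3 : Framed β₃ := fun i => by
    constructor
    · convert img_fld (hfr2 i).1 σ.symm using 1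
      funext k; simp [E, Pi.single_apply, apply_ite σ.symm]
    · convert img_fld (hfr2 i).2 σ.symm using 1
      funext k; simp [Fv, Pi.single_apply, apply_ite σ.symm]
  have hEE : ∀ i, i ≠ o → ∀ x : F, Img β₃ (E o + x • E i) (E o + x • E i) := fun i hi x => by
    convert img_fld (hlin i hi x 1).1 σ.symm using 1
    funext k
    rw [Pi.add_apply, Pi.add_apply, Pi.smul_apply, Pi.smul_apply]
    rcases k with k | k <;> simp [E, Pi.single_apply, apply_ite σ.symm, hs]
  have hFE : ∀ i, i ≠ o → ∀ x : F, Img β₃ (Fv o + x • E i) (Fv o + x • E i) := fun i hi x => by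
    convert img_fld (hlin i hi x 1).2.1 σ.symm using 1
    funext k
    rw [Pi.add_apply, Pi.add_apply, Pi.smul_apply, Pi.smul_apply]
    rcases k with k | k <;> simp [E, Fv, Pi.single_apply, apply_ite σ.symm, hs]
  have hFEo : ∀ c : F, Img β₃ (Fv o + c • E o) (Fv o + c • E o) := fun c => by
    have h : β₃ (tau (E o) c) = tau (E o) c := by
      rw [hβ₃, MulAut.mul_apply, ← hβ₂, hφ, fld_tau, hs]
      congr 1
      funext k; simp [E, Pi.single_apply, apply_ite σ.symm]
    have := img_conj h (hfr3 o).2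
    rwa [spT_mulVec, form_E, show (Fv o : Vm) (Sum.inr o) = 1 by simp [Fv], mul_one] at this
  have hEF : ∀ i, i ≠ o → ∀ y : F, Img β₃ (E o + y • Fv i) (E o + y • Fv i) := by
    intro i hi y
    have hv : (E o + y • Fv i : Vm) ≠ 0 := fun e => by
      have := congrFun e (Sum.inl o); simp [E, Fv] at this
    obtain ⟨z, hz⟩ := hex₃ _ hv
    have hr : ∀ k, k ≠ i → z (Sum.inr k) = 0 := fun k hk => by
      rw [← form_E z k]
      exact (img_orth p hm1 hv (E_ne_zero k) hz (hfr3 k).1).mp (by rw [form_E]; simp [E, Fv, hk])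
    have hl : ∀ k, k ≠ o → z (Sum.inl k) = 0 := fun k h1 => by
      have := (img_orth p hm1 hv (Fv_ne_zero k) hz (hfr3 k).2).mp (by rw [form_Fv]; simp [E, Fv, h1])
      rwa [form_Fv, neg_eq_zero] at this
    have ho : z (Sum.inl o) ≠ 0 := fun e => by
      have hz' : z = z (Sum.inr i) • Fv i := funext fun k => by
        rcases k with k | k
        · by_cases h3 : k = o
          · subst h3; simp [Fv, e]
          · simp [Fv, hl k h3]
        · by_cases h4 : k = i
          · subst h4; simp [Fv]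
          · simp [Fv, hr k h4, h4]
      have hne : z (Sum.inr i) ≠ 0 := fun e2 => hz.1 (by rw [hz', e2, zero_smul])
      obtain ⟨a, -, ha⟩ := img_inj p hm1 (Fv_ne_zero i) (hfr3 i).2
        (v' := E o + y • Fv i) (by
          have := img_smul hz (inv_ne_zero hne)
          rwa [hz', Pi.smul_apply, smul_eq_mul, show (Fv i : Vm) (Sum.inr i) = 1 by simp [Fv], mul_one,
            inv_smul_smul₀ hne] at this)
      have := congrFun ha (Sum.inl o); simp [E, Fv] at this
    have hzy : z (Sum.inr i) = y * z (Sum.inl o) := by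
      by_cases hy : y = 0
      · have h := (img_orth p hm1 hv (E_ne_zero i) hz (hfr3 i).1).mp (by rw [form_E]; simp [E, Fv, hy])
        rw [form_E] at h
        rw [h, hy, zero_mul]
      · have hu : (Fv o + y⁻¹ • E i : Vm) ≠ 0 := fun e => by
          have := congrFun e (Sum.inr o); simp [E, Fv] at this
        have h := (img_orth p hm1 hv hu hz (hFE i hi y⁻¹)).mp (by
          rw [sympForm_add_right, sympForm_smul_right, form_Fv, form_E]
          simp [E, Fv, hi, hi.symm, hy])
        rw [sympForm_add_right, sympForm_smul_right, form_E, form_Fv, neg_add_eq_zero] at h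
        rw [h, mul_inv_cancel_left₀ hy]
    convert img_smul hz (inv_ne_zero ho) using 1
    funext k
    rcases k with k | k
    · by_cases h3 : k = o
      · subst h3; simp [E, Fv, ho]
      · simp [E, Fv, hl k h3, h3]
    · by_cases h4 : k = i
      · subst h4; simp [E, Fv, hzy]; field_simp
      · simp [E, Fv, hr k h4, h4]
  have hFF : ∀ i, i ≠ o → ∀ y : F, Img β₃ (Fv o + y • Fv i) (Fv o + y • Fv i) := by
    intro i hi y
    have hv : (Fv o + y • Fv i : Vm) ≠ 0 := fun e => by
      have := congrFun e (Sum.inr o); simp [Fv, hi.symm] at this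
    obtain ⟨z, hz⟩ := hex₃ _ hv
    have hr : ∀ k, k ≠ o → k ≠ i → z (Sum.inr k) = 0 := fun k hk hk' => by
      rw [← form_E z k]
      exact (img_orth p hm1 hv (E_ne_zero k) hz (hfr3 k).1).mp (by rw [form_E]; simp [Fv, hk, hk'])
    have hl : ∀ k, z (Sum.inl k) = 0 := fun k => by
      have := (img_orth p hm1 hv (Fv_ne_zero k) hz (hfr3 k).2).mp (by rw [form_Fv]; simp [Fv])
      rwa [form_Fv, neg_eq_zero] at this
    have ho : z (Sum.inr o) ≠ 0 := fun e => by
      have hz' : z = z (Sum.inr i) • Fv i := funext fun k => by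
        rcases k with k | k
        · simp [Fv, hl k]
        · by_cases h4 : k = i
          · subst h4; simp [Fv]
          · by_cases h5 : k = o
            · subst h5; simp [Fv, e, h4]
            · simp [Fv, hr k h5 h4, h4]
      have hne : z (Sum.inr i) ≠ 0 := fun e2 => hz.1 (by rw [hz', e2, zero_smul])
      obtain ⟨a, -, ha⟩ := img_inj p hm1 (Fv_ne_zero i) (hfr3 i).2
        (v' := Fv o + y • Fv i) (by
          have := img_smul hz (inv_ne_zero hne)
          rwa [hz', Pi.smul_apply, smul_eq_mul, show (Fv i : Vm) (Sum.inr i) = 1 by simp [Fv], mul_one,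
            inv_smul_smul₀ hne] at this)
      have := congrFun ha (Sum.inr o); simp [Fv, hi.symm] at this
    have hzy : z (Sum.inr i) = y * z (Sum.inr o) := by
      by_cases hy : y = 0
      · have h := (img_orth p hm1 hv (E_ne_zero i) hz (hfr3 i).1).mp (by rw [form_E]; simp [Fv, hy, hi])
        rw [form_E] at h
        rw [h, hy, zero_mul]
      · have hu : (E o + (-y⁻¹) • E i : Vm) ≠ 0 := fun e => by
          have := congrFun e (Sum.inl o); simp [E, hi.symm] at this
        have h := (img_orth p hm1 hv hu hz (hEE i hi (-y⁻¹))).mp (by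
          rw [sympForm_add_right, sympForm_smul_right, form_E, form_E]
          simp [Fv, hi, hi.symm, hy])
        rw [sympForm_add_right, sympForm_smul_right, form_E, form_E, neg_mul, ← sub_eq_add_neg, sub_eq_zero] at h
        rw [h, mul_inv_cancel_left₀ hy]
    convert img_smul hz (inv_ne_zero ho) using 1
    funext k
    rcases k with k | k
    · simp [Fv, hl k]
    · by_cases h4 : k = i
      · subst h4; simp [Fv, hzy, hi]; field_simp
      · by_cases h5 : k = o
        · subst h5; simp [Fv, ho, h4]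
        · simp [Fv, hr k h5 h4, h4, h5]
  -- every point is fixed
  have prop : ∀ {v z : Vm}, v ≠ 0 → Img β₃ v z → ∀ u u' : Vm, u' ≠ 0 → (∀ y : F, u + y • u' ≠ 0) →
      Img β₃ u' u' → (∀ y : F, Img β₃ (u + y • u') (u + y • u')) →
      ω z u * ω v u' = ω z u' * ω v u := by
    intro v z hv hz u u' hu' hne hf' hf
    by_cases h0 : ω v u' = 0
    · rw [h0, mul_zero, (img_orth p hm1 hv hu' hz hf').mp h0, zero_mul]
    · have h := (img_orth p hm1 hv (hne (-(ω v u / ω v u'))) hz (hf _)).mp (by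
        rw [sympForm_add_right, sympForm_smul_right]; field_simp; ring)
      rw [sympForm_add_right, sympForm_smul_right] at h
      field_simp at h
      linear_combination h
  have done_of : ∀ {v z : Vm}, z ≠ 0 → ∀ {u₀ : Vm}, ω v u₀ ≠ 0 →
      (∀ i, ω z (E i) * ω v u₀ = ω z u₀ * ω v (E i)) →
      (∀ i, ω z (Fv i) * ω v u₀ = ω z u₀ * ω v (Fv i)) → ∃ a : F, a ≠ 0 ∧ z = a • v := by
    intro v z hz u₀ h0 h1 h3
    have e : z = (ω z u₀ / ω v u₀) • v := eq_of_form
      (fun i => by rw [sympForm_smul_left, div_mul_eq_mul_div, eq_div_iff h0]; exact h1 i)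
      (fun i => by rw [sympForm_smul_left, div_mul_eq_mul_div, eq_div_iff h0]; exact h3 i)
    exact ⟨_, fun e0 => hz (by rw [e, e0, zero_smul]), e⟩
  have nzE : ∀ (w : Vm) (y : F), w (Sum.inl o) = 0 → (E o + y • w : Vm) ≠ 0 := fun w y hw e => by
    have := congrFun e (Sum.inl o); simp [E, hw] at this
  have nzF : ∀ (w : Vm) (y : F), w (Sum.inr o) = 0 → (Fv o + y • w : Vm) ≠ 0 := fun w y hw e => by
    have := congrFun e (Sum.inr o); simp [Fv, hw] at this
  have big : ∀ v : Vm, v ≠ 0 → (ω v (E o) ≠ 0 ∨ ω v (Fv o) ≠ 0) → Img β₃ v v := by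
    intro v hv hor
    obtain ⟨z, hz⟩ := hex₃ v hv
    suffices h : ∃ a : F, a ≠ 0 ∧ z = a • v by
      obtain ⟨a, ha, e⟩ := h
      have := img_smul hz (inv_ne_zero ha)
      rwa [e, inv_smul_smul₀ ha] at this
    have pF := prop hv hz (Fv o) (E o) (E_ne_zero o) (fun y => nzF _ y (by simp [E])) (hfr3 o).1 hFEo
    by_cases h0 : ω v (E o) = 0
    · have h0z := (img_orth p hm1 hv (E_ne_zero o) hz (hfr3 o).1).mp h0
      refine done_of hz.1 (hor.resolve_left (not_not.mpr h0)) (fun i => ?_) (fun i => ?_)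
      · by_cases hi : i = o
        · subst hi; rw [h0, h0z, zero_mul, mul_zero]
        · exact (prop hv hz (Fv o) (E i) (E_ne_zero i) (fun y => nzF _ y (by simp [E])) (hfr3 i).1
            (hFE i hi)).symm
      · by_cases hi : i = o
        · subst hi; ring
        · exact (prop hv hz (Fv o) (Fv i) (Fv_ne_zero i) (fun y => nzF _ y (by simp [Fv, Ne.symm hi]))
            (hfr3 i).2 (hFF i hi)).symm
    · refine done_of hz.1 h0 (fun i => ?_) (fun i => ?_)
      · by_cases hi : i = o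
        · subst hi; ring
        · exact (prop hv hz (E o) (E i) (E_ne_zero i) (fun y => nzE _ y (by simp [E, Ne.symm hi]))
            (hfr3 i).1 (hEE i hi)).symm
      · by_cases hi : i = o
        · subst hi; exact pF
        · exact (prop hv hz (E o) (Fv i) (Fv_ne_zero i) (fun y => nzE _ y (by simp [Fv]))
            (hfr3 i).2 (hEF i hi)).symm
  have hall : ∀ v : Vm, v ≠ 0 → Img β₃ v v := by
    intro v hv
    by_cases hor : ω v (E o) ≠ 0 ∨ ω v (Fv o) ≠ 0
    · exact big v hv hor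
    push Not at hor
    obtain ⟨hE, hF⟩ := hor
    obtain ⟨z, hz⟩ := hex₃ v hv
    have hEz := (img_orth p hm1 hv (E_ne_zero o) hz (hfr3 o).1).mp hE
    have hFz := (img_orth p hm1 hv (Fv_ne_zero o) hz (hfr3 o).2).mp hF
    have pp : ∀ b b' : Vm, b' ≠ 0 → Img β₃ b' b' → b (Sum.inl o) = 0 → b' (Sum.inl o) = 0 →
        ω z b * ω v b' = ω z b' * ω v b := by
      intro b b' hb' hf' hb0 hb'0
      have hne : ∀ y : F, E o + b + y • b' ≠ 0 := fun y e => by
        have := congrFun e (Sum.inl o); simp [E, hb0, hb'0] at this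
      have hfix : ∀ y : F, Img β₃ (E o + b + y • b') (E o + b + y • b') := fun y => by
        refine big _ (hne y) (Or.inr ?_)
        rw [form_Fv]
        simp [E, hb0, hb'0]
      have h := prop hv hz (E o + b) b' hb' hne hf' hfix
      rwa [sympForm_add_right, sympForm_add_right, hEz, hE, zero_add, zero_add] at h
    obtain ⟨u₀, hu₀, hfu, hu0, h0⟩ : ∃ u₀ : Vm, u₀ ≠ 0 ∧ Img β₃ u₀ u₀ ∧ u₀ (Sum.inl o) = 0 ∧ ω v u₀ ≠ 0 := by
      by_contra hcon
      push Not at hcon
      refine hv (eq_of_form (z := v) (v := 0) (fun i => ?_) (fun i => ?_))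
      · rw [show ω (0 : Vm) (E i) = 0 by rw [form_E]; rfl]
        by_cases hi : i = o
        · subst hi; exact hE
        · exact hcon _ (E_ne_zero i) (hfr3 i).1 (by simp [E, Ne.symm hi])
      · rw [show ω (0 : Vm) (Fv i) = 0 by rw [form_Fv]; simp]
        by_cases hi : i = o
        · subst hi; exact hF
        · exact hcon _ (Fv_ne_zero i) (hfr3 i).2 (by simp [Fv])
    obtain ⟨a, ha, e⟩ := done_of hz.1 h0
      (fun i => by
        by_cases hi : i = o
        · subst hi; rw [hEz, hE, zero_mul, mul_zero]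
        · exact pp (E i) u₀ hu₀ hfu (by simp [E, Ne.symm hi]) hu0)
      (fun i => by
        by_cases hi : i = o
        · subst hi; rw [hFz, hF, zero_mul, mul_zero]
        · exact pp (Fv i) u₀ hu₀ hfu (by simp [Fv]) hu0)
    have := img_smul hz (inv_ne_zero ha)
    rwa [e, inv_smul_smul₀ ha] at this
  refine mulAut_ext fun v c => ?_
  rw [MulAut.one_apply]
  by_cases hv : v = 0
  · subst hv
    have : (tau (0 : Vm) c) = 1 := by
      rw [tau, show spT (0 : Vm) c = 1 from sp_ext fun x => by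
        rw [spT_mulVec, sp_one_mulVec, smul_zero, add_zero], map_one]
    rw [this, map_one]
  obtain ⟨-, φv, -, hφv⟩ := hall v hv
  obtain ⟨u, hu⟩ := exists_sympForm_right hv
  have hu0 : u ≠ 0 := fun e => by
    rw [e, show (0 : Vm) = (0 : F) • (0 : Vm) by rw [smul_zero], sympForm_smul_left, zero_mul] at hu
    exact zero_ne_one hu
  have h1 := img_conj (hφv c) (hall u hu0)
  have hne : (spT v c).1 *ᵥ u ≠ 0 := sp_mulVec_ne_zero _ hu0
  obtain ⟨a, -, e⟩ := img_unique p hm1 h1 (hall _ hne)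
  rw [spT_mulVec, spT_mulVec, hu, mul_one, mul_one] at e
  have e1 := congrArg (fun w => ω w v) e
  simp only [sympForm_add_left, sympForm_smul_left, sympForm_self, hu, mul_zero, add_zero, mul_one] at e1
  rw [← e1, one_smul] at e
  rw [hφv, ← smul_left_injective F hv (add_left_cancel e)]

include p in
theorem exists_framed (hm : 1 ≤ m) (h2 : p = 2 → 3 ≤ m) (β : MulAut PSpm) :
    ∃ g : Cfsg.GSp m F, Framed (dia g * β) :=
  exists_framed_of_img p hm β fun v hv => by
    obtain ⟨w, φ, hw, hφb, hφ⟩ := exists_image p hm h2 β hv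
    exact ⟨w, hw, φ, hφb, hφ⟩

include p in
theorem decomposition (hm : 2 ≤ m) (h2 : m = 2 → p ≠ 2) (β : MulAut PSpm) :
    ∃ (g : Cfsg.GSp m F) (σ : F ≃+* F), β = dia g * fld σ :=
  decomposition_of_img p hm β fun v hv => by
    obtain ⟨w, φ, hw, hφb, hφ⟩ := exists_image p (show 1 ≤ m by omega) (fun e => by
      rcases Nat.lt_or_ge m 3 with h | h
      · exact absurd e (h2 (by omega))
      · exact h) β hv
    exact ⟨w, hw, φ, hφb, hφ⟩

end Cfsg.Agent.Lib.Classical.AutPSp
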