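import Cfsg.Agent.Lib.Classical.AutPSp.Elements
import Cfsg.Agent.Lib.Classical.SympSimple
import Cfsg.Agent.Lib.Classical.SympCard
import Cfsg.Agent.Lib.Classical.GLTwo

/-!
Automorphisms of `PSp_{2m}(q)`, part 2: automorphisms permute the transvection groups.
-/

set_option autoImplicit false

namespace Cfsg.Agent.Lib.Classical.AutPSp

open Matrix
open scoped Pointwise
open Cfsg.Agent.Lib.Geometry Cfsg.Agent.Lib.Classical

variable {F : Type*} [Field F] {m : ℕ}

set_option quotPrecheck false in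
local notation "Spm" => Subtype (fun A => A ∈ Matrix.symplecticGroup (Fin m) F)
set_option quotPrecheck false in
local notation "Vm" => (Fin m ⊕ Fin m → F)
set_option quotPrecheck false in
local notation "Mat" => Matrix (Fin m ⊕ Fin m) (Fin m ⊕ Fin m) F
set_option quotPrecheck false in
local notation "PSpm" => Cfsg.PSp m F
set_option quotPrecheck false in
local notation "ω" => Cfsg.sympForm m F

theorem sympForm_add_left (u v w : Vm) : ω (u + v) w = ω u w + ω v w := by
  rw [← sympBilin_apply, ← sympBilin_apply, ← sympBilin_apply, map_add, LinearMap.add_apply]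

theorem sympForm_sub_left (u v w : Vm) : ω (u - v) w = ω u w - ω v w := by
  rw [← sympBilin_apply, ← sympBilin_apply, ← sympBilin_apply, map_sub, LinearMap.sub_apply]

theorem exists_sympForm_right {e : Vm} (he : e ≠ 0) : ∃ x : Vm, ω x e = 1 := by
  obtain ⟨y, hy⟩ := exists_sympForm_eq_one he
  exact ⟨(-1 : F) • y, by rw [sympForm_smul_left, sympForm_swap y e, hy]; ring⟩

/-- Stabiliser of a vector. -/
def stab (e : Vm) : Subgroup Spm where
  carrier := {g | g.1 *ᵥ e = e}
  one_mem' := sp_one_mulVec e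
  mul_mem' := fun {a b} ha hb => by
    show (a * b).1 *ᵥ e = e
    rw [sp_mulVec_mul, show b.1 *ᵥ e = e from hb]; exact ha
  inv_mem' := fun {a} ha => by
    show (a⁻¹).1 *ᵥ e = e
    conv_lhs => rw [← show a.1 *ᵥ e = e from ha]
    exact sp_inv_mulVec_cancel a e

/-- The unipotent radical of the stabiliser. -/
def rad (e : Vm) : Subgroup (stab (F := F) (m := m) e) where
  carrier := {g | ∀ w : Vm, ω e w = 0 → ∃ a : F, g.1.1 *ᵥ w = w + a • e}
  one_mem' := fun w _ => ⟨0, by
    show (1 : Spm).1 *ᵥ w = _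
    rw [sp_one_mulVec, zero_smul, add_zero]⟩
  mul_mem' := fun {g h} hg hh w hw => by
    obtain ⟨a, ha⟩ := hh w hw
    obtain ⟨b, hb⟩ := hg w hw
    refine ⟨b + a, ?_⟩
    show (g.1 * h.1).1 *ᵥ w = _
    rw [sp_mulVec_mul, ha, Matrix.mulVec_add, Matrix.mulVec_smul, hb, show g.1.1 *ᵥ e = e from g.2,
      add_smul, add_assoc]
  inv_mem' := fun {g} hg w hw => by
    obtain ⟨a, ha⟩ := hg w hw
    refine ⟨-a, ?_⟩
    show (g.1⁻¹).1 *ᵥ w = _
    have h := congrArg ((g.1⁻¹).1 *ᵥ ·) ha
    simp only [sp_inv_mulVec_cancel, Matrix.mulVec_add, Matrix.mulVec_smul,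
      show (g.1⁻¹).1 *ᵥ e = e from inv_mem g.2] at h
    rw [neg_smul]
    exact eq_add_neg_of_add_eq h.symm

variable [Fintype F] (p : ℕ) [Fact p.Prime] [CharP F p]

omit [Fintype F] in
theorem isPGroup_rad (e : Vm) (hm : 1 ≤ m) : IsPGroup p (rad (F := F) (m := m) e) := by
  haveI : Nonempty (Fin m ⊕ Fin m) := ⟨Sum.inl ⟨0, hm⟩⟩
  intro g
  refine ⟨2, ?_⟩
  have hp2 : 2 ≤ p := (Fact.out : p.Prime).two_le
  set M := g.1.1.1
  have h3 : (M - 1) ^ 3 = 0 := by
    refine Matrix.ext_of_mulVec_single fun k => ?_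
    set x : Vm := Pi.single k 1
    have h1 : ω e ((M - 1) *ᵥ x) = 0 := by
      rw [Matrix.sub_mulVec, Matrix.one_mulVec, sympForm_sub_right]
      have := sp_form g.1.1 e x
      rw [show g.1.1.1 *ᵥ e = e from g.1.2] at this
      rw [this, sub_self]
    obtain ⟨a, ha⟩ := g.2 _ h1
    have h2 : (M - 1) *ᵥ ((M - 1) *ᵥ x) = a • e := by
      rw [Matrix.sub_mulVec M 1 ((M - 1) *ᵥ x), Matrix.one_mulVec, ha, add_sub_cancel_left]
    rw [pow_three, ← Matrix.mulVec_mulVec, ← Matrix.mulVec_mulVec, h2, Matrix.mulVec_smul,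
      Matrix.sub_mulVec, Matrix.one_mulVec, show M *ᵥ e = e from g.1.2, sub_self, smul_zero,
      Matrix.zero_mulVec]
  have h4 : (M - 1) ^ p ^ 2 = 0 := pow_eq_zero_of_le (by nlinarith) h3
  rw [sub_pow_char_pow_of_commute _ _ (Commute.one_right M), one_pow, sub_eq_zero] at h4
  refine Subtype.ext (Subtype.ext (Subtype.ext ?_))
  rw [SubmonoidClass.coe_pow, SubmonoidClass.coe_pow, SubmonoidClass.coe_pow]
  exact h4

omit [Fintype F] [Fact p.Prime] [CharP F p] in
theorem eq_spT_of_fix {e : Vm} (he : e ≠ 0) {u : Spm}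
    (hu : ∀ w, ω e w = 0 → u.1 *ᵥ w = w) : ∃ k : F, u = spT e k := by
  obtain ⟨x0, hx0⟩ := exists_sympForm_right he
  set y := u.1 *ᵥ x0 - x0 with hy
  have hperp : ∀ w, ω e w = 0 → ω y w = 0 := by
    intro w hw
    rw [hy, sympForm_sub_left]
    have := sp_form u x0 w
    rw [hu w hw] at this
    rw [this, sub_self]
  obtain ⟨k, hk⟩ : ∃ k : F, k • e = y := by
    by_contra hne
    push Not at hne
    obtain ⟨x, hx1, hx2⟩ := exists_perp_pair he hne
    rw [hperp x hx1] at hx2
    exact zero_ne_one hx2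
  refine ⟨k, sp_ext fun x => ?_⟩
  have hd : ω e (x - ω x e • x0) = 0 := by
    rw [sympForm_sub_right, sympForm_smul_right, sympForm_swap e x, sympForm_swap e x0, hx0]; ring
  have h := hu _ hd
  rw [Matrix.mulVec_sub, Matrix.mulVec_smul, show u.1 *ᵥ x0 = x0 + k • e by rw [hk, hy, add_sub_cancel]] at h
  rw [spT_mulVec, sub_eq_iff_eq_add.mp h, smul_add, smul_smul, mul_comm k, sub_add_eq_add_sub]
  abel

/-- The Eichler elements. -/
noncomputable def eich (e w : Vm) : Spm := spT (e + w) 1 * spT w (-1) * spT e (-1)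

omit [Fintype F] [Fact p.Prime] [CharP F p] in
theorem eich_mulVec {e w : Vm} (hw : ω e w = 0) (x : Vm) :
    (eich e w).1 *ᵥ x = x + ω x e • w + ω x w • e := by
  rw [eich, sp_mulVec_mul, sp_mulVec_mul, spT_mulVec, spT_mulVec, spT_mulVec]
  have hwe : ω w e = 0 := by rw [sympForm_swap, hw, neg_zero]
  simp only [sympForm_add_left, sympForm_add_right, sympForm_smul_left, sympForm_self, hw, hwe,
    one_mul, mul_zero, add_zero, zero_add, smul_add]
  module

omit [Fintype F] [Fact p.Prime] [CharP F p] in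
theorem commute_eich {e : Vm} (he : e ≠ 0) {u : Spm} (hue : u.1 *ᵥ e = e)
    (h : ∀ w, ω e w = 0 → u * eich e w = eich e w * u) {w : Vm} (hw : ω e w = 0) :
    ∃ a : F, u.1 *ᵥ w = w + a • e ∧ ∀ x, ω x e = 1 → ω (u.1 *ᵥ x) w - ω x w = a := by
  obtain ⟨x0, hx0⟩ := exists_sympForm_right he
  have key : ∀ x, ω x e = 1 → u.1 *ᵥ w = w + (ω (u.1 *ᵥ x) w - ω x w) • e := by
    intro x hx
    have h1 := congrArg (fun g : Spm => g.1 *ᵥ x) (h w hw)
    simp only [sp_mulVec_mul, eich_mulVec hw, Matrix.mulVec_add, Matrix.mulVec_smul, hue] at h1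
    have hxe : ω (u.1 *ᵥ x) e = 1 := by
      conv_lhs => rw [← hue]
      rw [sp_form, hx]
    rw [hxe, hx, one_smul, one_smul, add_assoc, add_assoc, add_left_cancel_iff] at h1
    rw [sub_smul, ← add_sub_assoc, ← h1, add_sub_cancel_right]
  refine ⟨_, key x0 hx0, fun x hx => ?_⟩
  exact smul_left_injective F he (add_left_cancel ((key x hx).symm.trans (key x0 hx0)))

/-- Lower bound for the class of a non-transvection central element. -/
theorem class_lower (hm : 3 ≤ m) {e : Vm} {u : Spm} {y x0 : Vm} (he : e ≠ 0)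
    (hy : u.1 *ᵥ x0 - x0 = y) (hye : ω e y = 0) (hind : ∀ a : F, a • e ≠ y)
    {w : Vm} (hw : ω e w = 0) {a : F} (ha : a ≠ 0) (hwa : u.1 *ᵥ w = w + a • e)
    (himg : ∀ x, ∃ s t : F, u.1 *ᵥ x - x = s • e + t • y) :
    Fintype.card F ^ (2 * m) < Nat.card {c : Spm // ∃ g, c = g * u * g⁻¹} := by
  classical
  haveI : Finite Spm := Subtype.finite
  set q := Fintype.card F with hq
  set C := {c : Spm // ∃ g, c = g * u * g⁻¹}
  let P := Σ v : {v : Vm // v ≠ 0}, {b : Vm // ω v.1 b = 0 ∧ ∀ c : F, c • v.1 ≠ b}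
  have hg : ∀ x : P, ∃ g : Spm, g.1 *ᵥ e = x.1.1 ∧ g.1 *ᵥ y = x.2.1 := by
    rintro ⟨⟨v, hv⟩, b, hb, hbi⟩
    obtain ⟨g₁, hg₁⟩ := exists_sp_mulVec_eq he hv
    obtain ⟨g₂, h₂, h₂'⟩ := exists_sp_fix_of_perp hv (v := g₁.1 *ᵥ y) (v' := b)
      (by rw [← hg₁, sp_form, hye]) hb
      (fun c hc => hind c (by
        have := congrArg ((g₁⁻¹).1 *ᵥ ·) hc
        simp only [← hg₁, Matrix.mulVec_smul, sp_inv_mulVec_cancel] at this
        exact this)) hbi
    exact ⟨g₂ * g₁, by rw [sp_mulVec_mul, hg₁, h₂], by rw [sp_mulVec_mul, h₂']⟩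
  choose g hge hgy using hg
  let Φ : P → C × ((F × F) × (F × F)) → Prop := fun _ _ => True
  -- the pair is recovered from the conjugate and four scalars
  have hfib : Nat.card P ≤ Nat.card (C × ((F × F) × (F × F))) := by
    let R : C → (F × F) → Vm := fun c st =>
      let h := c.2.choose
      st.1 • (h.1 *ᵥ e) + st.2 • (h.1 *ᵥ y)
    have hR : ∀ (c : C) (x : Vm), ∃ st, R c st = c.1.1 *ᵥ x - x := by
      intro c x
      set h := c.2.choose
      have hc : c.1 = h * u * h⁻¹ := c.2.choose_spec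
      obtain ⟨s, t, hst⟩ := himg ((h⁻¹).1 *ᵥ x)
      refine ⟨(s, t), ?_⟩
      show s • (h.1 *ᵥ e) + t • (h.1 *ᵥ y) = _
      rw [hc, sp_mulVec_mul, sp_mulVec_mul, ← Matrix.mulVec_smul, ← Matrix.mulVec_smul, ← Matrix.mulVec_add,
        ← hst, Matrix.mulVec_sub, sp_mulVec_inv_cancel]
    have hx : ∀ x : P, ∃ z : C × ((F × F) × (F × F)), R z.1 z.2.1 = x.1.1 ∧ R z.1 z.2.2 = x.2.1 := by
      intro x
      let c : C := ⟨g x * u * (g x)⁻¹, g x, rfl⟩
      obtain ⟨st, hst⟩ := hR c ((g x).1 *ᵥ w)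
      obtain ⟨st', hst'⟩ := hR c ((g x).1 *ᵥ x0)
      refine ⟨⟨c, (a⁻¹ * st.1, a⁻¹ * st.2), st'⟩, ?_, ?_⟩
      · show (a⁻¹ * st.1) • _ + (a⁻¹ * st.2) • _ = _
        rw [← smul_smul, ← smul_smul, ← smul_add]
        show a⁻¹ • R c st = _
        rw [hst, sp_mulVec_mul, sp_mulVec_mul, sp_inv_mulVec_cancel, hwa, Matrix.mulVec_add, add_sub_cancel_left,
          Matrix.mulVec_smul, hge, inv_smul_smul₀ ha]
      · rw [hst', sp_mulVec_mul, sp_mulVec_mul, sp_inv_mulVec_cancel, ← Matrix.mulVec_sub, hy, hgy]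
    choose z hz1 hz2 using hx
    refine Nat.card_le_card_of_injective z fun x x' h => ?_
    obtain ⟨⟨v, hv⟩, b, hb⟩ := x
    obtain ⟨⟨v', hv'⟩, b', hb'⟩ := x'
    obtain rfl : v = v' := by
      have h1 := hz1 ⟨⟨v, hv⟩, b, hb⟩
      have h2 := hz1 ⟨⟨v', hv'⟩, b', hb'⟩
      rw [h] at h1
      exact h1.symm.trans h2
    obtain rfl : b = b' := by
      have h1 := hz2 ⟨⟨v, hv⟩, b, hb⟩
      have h2 := hz2 ⟨⟨v, hv'⟩, b', hb'⟩
      rw [h] at h1
      exact h1.symm.trans h2
    rfl
  have hb : ∀ v : {v : Vm // v ≠ 0},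
      q ^ (2 * m - 1) ≤ Nat.card {b : Vm // ω v.1 b = 0 ∧ ∀ c : F, c • v.1 ≠ b} + q := by
    intro v
    let B := sympBilin m F v.1
    obtain ⟨x, hx⟩ := exists_sympForm_eq_one v.2
    have hk := card_ker_mul_card_range B (fun t => ⟨t • x, by
      rw [map_smul, sympBilin_apply, hx, smul_eq_mul, mul_one]⟩)
    have hV : Nat.card Vm = q ^ (2 * m) := by
      rw [Nat.card_eq_fintype_card, Fintype.card_fun, Fintype.card_sum, Fintype.card_fin, hq, two_mul]
    rw [hV, Nat.card_eq_fintype_card (α := F), ← hq] at hk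
    have hqq : q ^ (2 * m) = q ^ (2 * m - 1) * q := by rw [← pow_succ, show 2 * m - 1 + 1 = 2 * m by omega]
    have hker : q ^ (2 * m - 1) ≤ Nat.card (LinearMap.ker B) :=
      (Nat.eq_of_mul_eq_mul_right (show 0 < q from Fintype.card_pos) (hqq ▸ hk)).ge
    refine hker.trans ?_
    let f : LinearMap.ker B → {b : Vm // ω v.1 b = 0 ∧ ∀ c : F, c • v.1 ≠ b} ⊕ F := fun b =>
      if h : ∀ c : F, c • v.1 ≠ b.1 then Sum.inl ⟨b.1, by
        have := b.2; rw [LinearMap.mem_ker, sympBilin_apply] at this; exact this, h⟩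
      else Sum.inr (Classical.choose (not_forall.mp h))
    have hf : Function.Injective f := by
      intro b b' hbb
      by_cases h : ∀ c : F, c • v.1 ≠ b.1 <;> by_cases h' : ∀ c : F, c • v.1 ≠ b'.1
      · simp only [f, dif_pos h, dif_pos h', Sum.inl.injEq, Subtype.mk.injEq] at hbb
        exact Subtype.ext hbb
      · simp only [f, dif_pos h, dif_neg h', reduceCtorEq] at hbb
      · simp only [f, dif_neg h, dif_pos h', reduceCtorEq] at hbb
      · simp only [f, dif_neg h, dif_neg h', Sum.inr.injEq] at hbb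
        have e1 := not_not.mp (Classical.choose_spec (not_forall.mp h))
        have e2 := not_not.mp (Classical.choose_spec (not_forall.mp h'))
        rw [hbb, e2] at e1
        exact Subtype.ext e1.symm
    refine (Nat.card_le_card_of_injective f hf).trans (le_of_eq ?_)
    rw [Nat.card_sum, Nat.card_eq_fintype_card (α := F), ← hq]
  have hP : (q ^ (2 * m) - 1) * (q ^ (2 * m - 1) - q) ≤ Nat.card P := by
    rw [Nat.card_sigma]
    refine le_trans (le_of_eq ?_) (Finset.card_nsmul_le_sum _ _ (q ^ (2 * m - 1) - q)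
      (fun v _ => by have := hb v; omega))
    rw [Finset.card_univ, Fintype.card_subtype_compl, Fintype.card_subtype_eq, Fintype.card_fun,
      Fintype.card_sum, Fintype.card_fin, ← hq, smul_eq_mul, two_mul]
  have hC := hP.trans hfib
  rw [Nat.card_prod, Nat.card_prod, Nat.card_prod, Nat.card_eq_fintype_card (α := F), ← hq] at hC
  by_contra hle
  push Not at hle
  have hq2 : 2 ≤ q := Fintype.one_lt_card
  have h1 : q ^ (2 * m - 1) = q ^ 5 * q ^ (2 * m - 6) := by rw [← pow_add]; congr 1; omega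
  have h2 : 1 ≤ q ^ (2 * m - 6) := Nat.one_le_pow _ _ (by omega)
  have h3 : q * q * (q * q) + 2 * q + 1 ≤ q ^ (2 * m - 1) := by
    rw [h1]
    refine le_trans ?_ (Nat.le_mul_of_pos_right _ h2)
    have h5 : q ^ 5 = q * (q * q * (q * q)) := by ring
    have h6 : 4 * q ≤ q * q * (q * q) := by
      have : 4 ≤ q * q := Nat.mul_le_mul hq2 hq2
      exact Nat.mul_le_mul this (Nat.le_mul_self q)
    rw [h5]
    have h9 := Nat.mul_le_mul_right (q * q * (q * q)) hq2
    omega
  have h4 : 2 ≤ q ^ (2 * m) := hq2.trans (Nat.le_self_pow (by omega) q)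
  have hC' := hC.trans (Nat.mul_le_mul_right _ hle)
  obtain ⟨N, hN⟩ : ∃ N, q ^ (2 * m) = N + 2 := ⟨_, (Nat.sub_add_cancel h4).symm⟩
  obtain ⟨D, hD⟩ : ∃ D, q ^ (2 * m - 1) = D + (q * q * (q * q) + 2 * q + 1) :=
    ⟨_, (Nat.sub_add_cancel h3).symm⟩
  rw [hN, hD, show N + 2 - 1 = N + 1 by omega,
    show D + (q * q * (q * q) + 2 * q + 1) - q = D + (q * q * (q * q) + q + 1) by omega] at hC'
  have h7 : q * q * (q * q) ≤ (N + 1) * q := by
    have h8 : q ^ 3 + 1 ≤ q ^ (2 * m) := by
      calc q ^ 3 + 1 ≤ q ^ 4 := by nlinarith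
        _ ≤ _ := Nat.pow_le_pow_right (by omega) (by omega)
    nlinarith
  nlinarith

/-- **Automorphisms permute transvection groups.** -/
theorem exists_image (hm : 1 ≤ m) (h2 : p = 2 → 3 ≤ m) (β : MulAut PSpm) {v : Vm} (hv : v ≠ 0) :
    ∃ (w : Vm) (φ : F → F), w ≠ 0 ∧ Function.Bijective φ ∧ ∀ c, β (tau v c) = tau w (φ c) := by
  classical
  haveI : Finite Spm := Subtype.finite
  set e := v
  -- a Sylow subgroup inside the stabiliser, containing the radical
  obtain ⟨P₀, hP₀⟩ := (isPGroup_rad (F := F) p e hm).exists_le_sylow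
  have hidx : ¬ p ∣ (stab (F := F) (m := m) e).index := by
    have hcard : (stab (F := F) (m := m) e).index = Fintype.card F ^ (2 * m) - 1 := by
      let f : Spm ⧸ stab (F := F) (m := m) e → {x : Vm // x ≠ 0} :=
        Quotient.lift (fun g => ⟨g.1 *ᵥ e, sp_mulVec_ne_zero g hv⟩) (fun a b h => by
          have h' : (a⁻¹ * b).1 *ᵥ e = e := QuotientGroup.leftRel_apply.mp h
          refine Subtype.ext ?_
          show a.1 *ᵥ e = b.1 *ᵥ e
          conv_lhs => rw [← h']
          rw [sp_mulVec_mul, sp_mulVec_inv_cancel])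
      have hf : Function.Bijective f := by
        constructor
        · intro a b h
          induction a using Quotient.inductionOn with | _ a => ?_
          induction b using Quotient.inductionOn with | _ b => ?_
          have h' : a.1 *ᵥ e = b.1 *ᵥ e := congrArg Subtype.val h
          refine Quotient.sound (QuotientGroup.leftRel_apply.mpr ?_)
          show (a⁻¹ * b).1 *ᵥ e = e
          rw [sp_mulVec_mul, ← h', sp_inv_mulVec_cancel]
        · rintro ⟨x, hx⟩
          obtain ⟨g, hg⟩ := exists_sp_mulVec_eq hv hx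
          exact ⟨Quotient.mk _ g, Subtype.ext hg⟩
      rw [Subgroup.index, Nat.card_congr (Equiv.ofBijective f hf), Nat.card_eq_fintype_card,
        Fintype.card_subtype_compl, Fintype.card_subtype_eq, Fintype.card_fun, Fintype.card_sum,
        Fintype.card_fin, two_mul]
    rw [hcard]
    exact not_dvd_card_pow_sub_one (p := p) (F := F) (k := 2 * m) (by omega)
  set U := (P₀ : Subgroup (stab (F := F) (m := m) e)).map (stab e).subtype
  have hUi : ¬ p ∣ U.index := by
    rw [Subgroup.index_map_subtype]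
    exact fun h => ((Fact.out : p.Prime).dvd_mul.mp h).elim P₀.not_dvd_index hidx
  let P : Sylow p PSpm := ((P₀.isPGroup'.map _).map pr).toSylow (P := U.map pr) fun h =>
    hUi (h.trans (Subgroup.index_map_dvd U pr_surjective))
  have hUe : ∀ y ∈ U, y.1 *ᵥ e = e := by rintro _ ⟨y, -, rfl⟩; exact y.2
  have htau : ∀ c, ∀ y ∈ U, pr y * tau e c = tau e c * pr y := by
    intro c y hy
    have h := tau_conj y e c
    rw [hUe y hy] at h
    exact mul_inv_eq_iff_eq_mul.mp h
  have hradU : ∀ g : rad (F := F) (m := m) e, g.1.1 ∈ U := fun g => ⟨g.1, hP₀ g.2, rfl⟩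
  have heU : ∀ c, spT e c ∈ U := by
    intro c
    have h1 : spT e c ∈ stab e := by
      show (spT e c).1 *ᵥ e = e
      rw [spT_mulVec, sympForm_self, mul_zero, zero_smul, add_zero]
    exact hradU ⟨⟨_, h1⟩, fun w hw => ⟨0, by
      show (spT e c).1 *ᵥ w = _
      rw [spT_mulVec, sympForm_swap w e, hw, neg_zero, mul_zero]⟩⟩
  obtain ⟨x, hx⟩ := MulAction.exists_smul_eq PSpm P (β • P)
  obtain ⟨s, rfl⟩ := pr_surjective x
  have hmem : ∀ y, y ∈ (β • P : Sylow p PSpm) ↔ ∃ u ∈ U, y = pr (s * u * s⁻¹) := by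
    intro y
    rw [← hx]
    show y ∈ MulAut.conj (pr s) • (P : Subgroup PSpm) ↔ _
    rw [Subgroup.mem_pointwise_smul_iff_inv_smul_mem]
    show _ ∈ U.map pr ↔ _
    constructor
    · rintro ⟨u, hu, e⟩
      refine ⟨u, hu, ?_⟩
      rw [map_mul, map_mul, map_inv, e]
      simp [MulAut.smul_def, mul_assoc]
    · rintro ⟨u, hu, rfl⟩
      exact ⟨u, hu, by simp [MulAut.smul_def, mul_assoc]⟩
  refine ⟨s.1 *ᵥ e, ?_⟩
  have himg : ∀ c, ∃ k, β (tau e c) = tau (s.1 *ᵥ e) k := by
    intro c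
    obtain ⟨u, hu, hue⟩ := (hmem _).mp (Subgroup.mem_map_of_mem β.toMonoidHom
      (Subgroup.mem_map_of_mem pr (heU c)))
    have hue' : β (tau e c) = pr (s * u * s⁻¹) := hue
    have hcu : ∀ t ∈ U, u * t = t * u := by
      intro t ht
      obtain ⟨y, ⟨r, hr, rfl⟩, hy'⟩ := (hmem (pr (s * t * s⁻¹))).mpr ⟨t, ht, rfl⟩
      have hcomm : pr (s * u * s⁻¹) * pr (s * t * s⁻¹) = pr (s * t * s⁻¹) * pr (s * u * s⁻¹) := by
        rw [← hue', ← hy']
        show β (tau e c) * β (pr r) = β (pr r) * β (tau e c)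
        rw [← map_mul, ← map_mul, htau c r hr]
      simp only [map_mul, map_inv] at hcomm
      have hc2 : pr (u * t) = pr (t * u) := by
        rw [map_mul, map_mul]
        have h3 := congrArg (fun z => z * pr s) hcomm
        simpa [mul_assoc] using h3
      have hz : (u * t)⁻¹ * (t * u) ∈ Subgroup.center Spm := QuotientGroup.eq.mp hc2
      have hzU : (u * t)⁻¹ * (t * u) ∈ U := mul_mem (inv_mem (mul_mem hu ht)) (mul_mem ht hu)
      obtain ⟨k, hk⟩ := (P₀.isPGroup'.map (stab e).subtype) ⟨_, hzU⟩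
      exact inv_mul_eq_one.mp (eq_one_of_central_pow p hm hz (congrArg Subtype.val hk))
    have hE : ∀ w, ω e w = 0 → u * eich e w = eich e w * u := by
      intro w hw
      have h1 : eich e w ∈ stab e := by
        show (eich e w).1 *ᵥ e = e
        rw [eich_mulVec hw, sympForm_self, hw, zero_smul, zero_smul, add_zero, add_zero]
      refine hcu _ (hradU ⟨⟨_, h1⟩, fun z hz => ⟨ω z w, ?_⟩⟩)
      show (eich e w).1 *ᵥ z = _
      rw [eich_mulVec hw, sympForm_swap z e, hz, neg_zero, zero_smul, add_zero]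
    have hfix : ∀ w, ω e w = 0 → u.1 *ᵥ w = w := by
      intro w hw
      obtain ⟨a, ha, hax⟩ := commute_eich hv (hUe u hu) hE hw
      obtain ⟨x0, hx0⟩ := exists_sympForm_right hv
      have h1 := hax x0 hx0
      have h2' := sp_form u x0 w
      rw [ha, sympForm_add_right, sympForm_smul_right,
        show ω (u.1 *ᵥ x0) e = 1 by rw [← hx0, ← sp_form u x0 e, hUe u hu]] at h2'
      by_cases ha0 : a = 0
      · rw [ha, ha0, zero_smul, add_zero]
      exfalso
      have h2a : (2 : F) * a = 0 := by linear_combination h2' - h1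
      have h20 : (2 : F) = 0 := (mul_eq_zero.mp h2a).resolve_right ha0
      obtain rfl : p = 2 := CharP.ringChar_of_prime_eq_zero Nat.prime_two (by exact_mod_cast h20) ▸
        (ringChar.eq F p).symm
      set y := u.1 *ᵥ x0 - x0 with hy
      have hye : ω e y = 0 := by
        rw [hy, sympForm_sub_right]
        conv_lhs => arg 1; rw [← hUe u hu]
        rw [sp_form, sub_self]
      have hind : ∀ b : F, b • e ≠ y := by
        intro b hb
        have h4 : ω y w = a := by rw [hy, sympForm_sub_left]; exact h1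
        rw [← hb, sympForm_smul_left, hw, mul_zero] at h4
        exact ha0 h4.symm
      have himgu : ∀ x, ∃ i j : F, u.1 *ᵥ x - x = i • e + j • y := by
        intro x
        have hd : ω e (x - ω x e • x0) = 0 := by
          rw [sympForm_sub_right, sympForm_smul_right, sympForm_swap e x, sympForm_swap e x0, hx0]; ring
        obtain ⟨b, hb, -⟩ := commute_eich hv (hUe u hu) hE hd
        refine ⟨b, ω x e, ?_⟩
        rw [Matrix.mulVec_sub, Matrix.mulVec_smul, sub_eq_iff_eq_add] at hb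
        rw [hb, hy, smul_sub]
        abel
      have hlow := class_lower (m := m) (h2 rfl) hv hy.symm hye hind hw ha0 ha himgu
      -- the class of `u` is at most the class of a transvection
      have hpr : Function.Injective (pr (F := F) (m := m)) := by
        rw [← MonoidHom.ker_eq_bot_iff, eq_bot_iff]
        intro z hz
        rw [MonoidHom.mem_ker, pr_eq_one] at hz
        refine Subgroup.mem_bot.mpr (eq_one_of_central_pow 2 hm hz (k := 1) ?_)
        rcases (mem_center_sp_iff hm z).mp hz with e' | e' <;>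
          exact Subtype.ext (by rw [pow_one, SubmonoidClass.coe_pow, e', Submonoid.coe_one, sq]; simp)
      have hup : Nat.card {c' : Spm // ∃ g, c' = g * u * g⁻¹} ≤ Nat.card {x : Vm // x ≠ 0} := by
        have key : ∀ g : Spm, ∃ x : {x : Vm // x ≠ 0}, pr (g * u * g⁻¹) = (pr s)⁻¹ * β (tau x.1 c) * pr s := by
          intro g
          obtain ⟨r, hr⟩ := pr_surjective (β.symm (pr (s * g * s⁻¹)))
          refine ⟨⟨r.1 *ᵥ e, sp_mulVec_ne_zero r hv⟩, ?_⟩
          have hr' : β (pr r) = pr (s * g * s⁻¹) := by rw [hr, MulEquiv.apply_symm_apply]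
          rw [← tau_conj, map_mul β, map_mul β, map_inv β, hr', hue']
          simp only [map_mul, map_inv]
          group
        refine Nat.card_le_card_of_injective (fun c' => (key c'.2.choose).choose) fun c₁ c₂ h => ?_
        refine Subtype.ext (hpr ?_)
        have h1 := (key c₁.2.choose).choose_spec
        have h2 := (key c₂.2.choose).choose_spec
        simp only at h
        rw [(congrArg pr c₁.2.choose_spec).trans h1, (congrArg pr c₂.2.choose_spec).trans h2, h]
      rw [Nat.card_eq_fintype_card (α := {x : Vm // x ≠ 0}), Fintype.card_subtype_compl,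
        Fintype.card_fun, Fintype.card_sum, Fintype.card_fin, ← two_mul] at hup
      omega
    obtain ⟨k, rfl⟩ := eq_spT_of_fix hv hfix
    exact ⟨k, by rw [hue', spT_conj]; rfl⟩
  choose φ hφ using himg
  refine ⟨φ, sp_mulVec_ne_zero s hv, Finite.injective_iff_bijective.mp ?_, hφ⟩
  intro c d h
  exact tau_injective p hm hv (β.injective ((hφ c).trans (by rw [h, ← hφ d])))

end Cfsg.Agent.Lib.Classical.AutPSp
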